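import Cfsg.Agent.Lib.HeType.Tri.Linear.CrossKillData

/-!
# The impossible choices
-/

set_option autoImplicit false
set_option maxRecDepth 100000
set_option Elab.async false

namespace CfsgLib.HeType.Tri.Linear

variable {G : Type*} [Group G] {f : ℕ → G} {s : ℕ → G}

theorem cross10_ok : killOk cross10 3 [47] [35, 35, 37, 35] = true := by decide +kernel

theorem cross10_false (S : Sys cross10 f s) : False := S.false_of_killOk cross10_ok

theorem cross15762_ok : killOk cross15762 3 [47] [35, 35, 37, 35, 35, 46, 35, 35] = true := by decide +kernel

theorem cross15762_false (S : Sys cross15762 f s) : False := S.false_of_killOk cross15762_ok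

theorem cross15768_ok : killOk cross15768 3 [47] [35, 35, 36, 37, 38, 39, 46, 39] = true := by decide +kernel

theorem cross15768_false (S : Sys cross15768 f s) : False := S.false_of_killOk cross15768_ok

theorem cross18916_ok : killOk cross18916 3 [47] [35, 35, 37, 35, 35, 46, 35, 35] = true := by decide +kernel

theorem cross18916_false (S : Sys cross18916 f s) : False := S.false_of_killOk cross18916_ok

theorem cross18926_ok : killOk cross18926 3 [47] [35, 35, 36, 37, 38, 39, 46, 39] = true := by decide +kernel

theorem cross18926_false (S : Sys cross18926 f s) : False := S.false_of_killOk cross18926_ok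

theorem cross21044_ok : killOk cross21044 3 [47] [35, 35, 37, 35] = true := by decide +kernel

theorem cross21044_false (S : Sys cross21044 f s) : False := S.false_of_killOk cross21044_ok

end CfsgLib.HeType.Tri.Linear
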