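import Cfsg.Agent.Lib.HeType.Tri.Linear.KillData

/-!
# The impossible choices
-/

set_option autoImplicit false
set_option maxRecDepth 100000
set_option Elab.async false

namespace CfsgLib.HeType.Tri.Linear

variable {G : Type*} [Group G] {f : ℕ → G} {s : ℕ → G}

theorem badsq80_ok : killOk badsq80 1 [17] [12] = true := by decide +kernel

theorem badsq80_false (S : Sys badsq80 f s) : False := S.false_of_killOk badsq80_ok

theorem badsq88_ok : killOk badsq88 1 [17] [12] = true := by decide +kernel

theorem badsq88_false (S : Sys badsq88 f s) : False := S.false_of_killOk badsq88_ok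

theorem bad0_8_ok : killOk bad0_8 1 [19] [7, 8, 10, 11, 12, 10] = true := by decide +kernel

theorem bad0_8_false (S : Sys bad0_8 f s) : False := S.false_of_killOk bad0_8_ok

theorem bad24_0_ok : killOk bad24_0 1 [19] [7, 8, 10, 11, 12, 10] = true := by decide +kernel

theorem bad24_0_false (S : Sys bad24_0 f s) : False := S.false_of_killOk bad24_0_ok

theorem bad32_0_ok : killOk bad32_0 1 [19] [] = true := by decide +kernel

theorem bad32_0_false (S : Sys bad32_0 f s) : False := S.false_of_killOk bad32_0_ok

theorem bad32_8_ok : killOk bad32_8 1 [19] [] = true := by decide +kernel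

theorem bad32_8_false (S : Sys bad32_8 f s) : False := S.false_of_killOk bad32_8_ok

theorem bad56_0_ok : killOk bad56_0 1 [19] [] = true := by decide +kernel

theorem bad56_0_false (S : Sys bad56_0 f s) : False := S.false_of_killOk bad56_0_ok

theorem bad56_8_ok : killOk bad56_8 1 [19] [] = true := by decide +kernel

theorem bad56_8_false (S : Sys bad56_8 f s) : False := S.false_of_killOk bad56_8_ok

end CfsgLib.HeType.Tri.Linear
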