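import Cfsg.Agent.Lib.HeType.Tri.Linear.Cert
import Cfsg.Agent.Lib.HeType.Tri.Iso
import Cfsg.Agent.Lib.HeType.Tri.Rels
import Cfsg.Agent.Lib.HeType.Model.SLFive
import Cfsg.Agent.Lib.HeType.Cert.FastEq
import Cfsg.Agent.Lib.JankoFour.TwoTen.Linear
import Cfsg.Agent.Lib.Classical.SLBasic

/-!
# The special linear group in five dimensions satisfies the certificate, and every system with it is this group
-/

set_option autoImplicit false
set_option maxRecDepth 100000
set_option linter.unusedSectionVars false

namespace CfsgLib.HeType.Tri.Linear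

open Matrix CfsgLib.HeType.Cert CfsgLib.HeType.SLFive

/-- The codes used. -/
def genC : List ℕ :=
  [17043523, 17043525, 17043529, 17043537, 17045569, 17111105, 19208257, 8540225, 9179201, 8919109, 17041601,
    25721932]

/-- The first element permuting a line. -/
def s0C : ℕ := 17041601

/-- The second. -/
def s1C : ℕ := 25721932

/-- The product of two codes. -/
def mulC (a b : ℕ) : ℕ :=
  Nat.ofBits fun p : Fin 25 => Bool.xor (Bool.xor (Bool.xor (Bool.xor
    (a.testBit (5 * (p.val / 5) + 0) && b.testBit (5 * 0 + p.val % 5))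
    (a.testBit (5 * (p.val / 5) + 1) && b.testBit (5 * 1 + p.val % 5)))
    (a.testBit (5 * (p.val / 5) + 2) && b.testBit (5 * 2 + p.val % 5)))
    (a.testBit (5 * (p.val / 5) + 3) && b.testBit (5 * 3 + p.val % 5)))
    (a.testBit (5 * (p.val / 5) + 4) && b.testBit (5 * 4 + p.val % 5))

theorem mat5_mulC (a b : ℕ) : mat5 (mulC a b) = mat5 a * mat5 b := by
  ext i j
  have hp : 5 * i.val + j.val < 25 := by omega
  have h1 : (5 * i.val + j.val) / 5 = i.val := by omega
  have h2 : (5 * i.val + j.val) % 5 = j.val := by omega
  simp only [Matrix.mul_apply, Fin.sum_univ_five, mat5, Matrix.of_apply, mulC, Nat.testBit_ofBits_lt _ _ hp, h1, h2]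
  have key : ∀ a0 a1 a2 a3 a4 b0 b1 b2 b3 b4 : Bool,
      (if Bool.xor (Bool.xor (Bool.xor (Bool.xor (a0 && b0) (a1 && b1)) (a2 && b2)) (a3 && b3)) (a4 && b4)
        then (1 : ZMod 2) else 0) = (if a0 then 1 else 0) * (if b0 then 1 else 0) +
          (if a1 then 1 else 0) * (if b1 then 1 else 0) + (if a2 then 1 else 0) * (if b2 then 1 else 0) +
          (if a3 then 1 else 0) * (if b3 then 1 else 0) + (if a4 then 1 else 0) * (if b4 then 1 else 0) := by
    decide
  exact key _ _ _ _ _ _ _ _ _ _

/-- The code of the identity. -/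
def oneC : ℕ := 17043521

theorem mat5_one : mat5 oneC = 1 := by decide +kernel

/-- The code stands for an element. -/
def Good (c : ℕ) : Prop := (mat5 c).det = 1

theorem sl5_coe {c : ℕ} (h : Good c) : (sl5 c).1 = mat5 c := by
  rw [show sl5 c = ⟨mat5 c, h⟩ from dif_pos h]

theorem good_one : Good oneC := by rw [Good, mat5_one, Matrix.det_one]

theorem sl5_one : sl5 oneC = 1 := eq_of_val (by rw [sl5_coe good_one, mat5_one]; rfl)

theorem good_mul {a b : ℕ} (ha : Good a) (hb : Good b) : Good (mulC a b) ∧ sl5 (mulC a b) = sl5 a * sl5 b := by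
  have h : Good (mulC a b) := by rw [Good, mat5_mulC, Matrix.det_mul, ha, hb, one_mul]
  exact ⟨h, eq_of_val (by rw [sl5_coe h, Matrix.SpecialLinearGroup.coe_mul, sl5_coe ha, sl5_coe hb, mat5_mulC])⟩

/-- The product of codes. -/
def wC (ws : List ℕ) : ℕ := ws.foldr mulC oneC

theorem good_wC : ∀ ws : List ℕ, (∀ c ∈ ws, Good c) → Good (wC ws) ∧ sl5 (wC ws) = (ws.map sl5).prod
  | [], _ => ⟨good_one, by simpa [wC] using sl5_one⟩
  | A :: ws, h => by
    obtain ⟨h1, h2⟩ := good_wC ws fun L hL => h L (by simp [hL])
    obtain ⟨h3, h4⟩ := good_mul (h A (by simp)) h1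
    exact ⟨h3, by rw [show wC (A :: ws) = mulC A (wC ws) from rfl, h4, h2]; simp⟩

theorem gen_good : ∀ c ∈ genC, Good c := by
  simp only [genC, List.forall_mem_cons, List.not_mem_nil, false_implies, implies_true, and_true]
  refine ⟨?_, ?_, ?_, ?_, ?_, ?_, ?_, ?_, ?_, ?_, ?_, ?_⟩ <;> (unfold Good; decide +kernel)

/-- Two words in the codes used have the same product. -/
def chk (us vs : List ℕ) : Bool := us.all genC.contains && vs.all genC.contains && Nat.beq (wC us) (wC vs)

theorem chk_spec {us vs : List ℕ} (h : chk us vs = true) : (us.map sl5).prod = (vs.map sl5).prod := by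
  simp only [chk, Bool.and_eq_true, List.all_eq_true, List.contains_iff_mem] at h
  rw [← (good_wC us fun c hc => gen_good c (h.1.1 c hc)).2, ← (good_wC vs fun c hc => gen_good c (h.1.2 c hc)).2,
    Nat.eq_of_beq_eq_true h.2]

/-- A code or nothing. -/
def sel (e : Bool) (c : ℕ) : List ℕ := if e then [c] else []

/-- The factors of a code of the extraspecial group. -/
def qItems (v : ℕ) : List ℕ :=
  sel (v.testBit 0) 17043525 ++ sel (v.testBit 1) 17043529 ++ sel (v.testBit 2) 17043537 ++
    (sel ((v / 8).testBit 0) 17045569 ++ sel ((v / 8).testBit 1) 17111105 ++ sel ((v / 8).testBit 2) 19208257) ++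
    sel (v.testBit 6) 17043523

/-- One of the three generators. -/
def gCode (k : ℕ) : ℕ := if k = 0 then 8540225 else if k = 1 then 9179201 else 8919109

/-- The factors of a code. -/
def cItems (c : ℕ) : List ℕ := qItems (c % 128) ++ (lPaths.getD (c / 128) []).map gCode

/-- The extra elements. -/
def sS (k : ℕ) : S5 := sl5 (if k = 0 then s0C else s1C)

/-- The element of a code. -/
def fS (c : ℕ) : S5 := cEl tS aS bS xS yS rS c

attribute [local irreducible] CfsgLib.HeType.SLFive.sl5

theorem cItems_prod (c : ℕ) : ((cItems c).map sl5).prod = fS c := by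
  have e : ∀ (e : Bool) (L : ℕ), ((sel e L).map sl5).prod = if e then sl5 L else 1 := fun e L => by
    cases e <;> simp [sel]
  simp only [cItems, qItems, List.map_append, List.prod_append, List.map_map, e]
  rw [show fS c = qEl tS aS bS (c % 128) * lWord xS yS rS (lPaths.getD (c / 128) []) from rfl]
  congr 2
  refine List.map_congr_left fun k _ => ?_
  simp only [Function.comp_apply, gCode, gL]
  split_ifs <;> rfl

/-- The factors of a word. -/
def tokItems : Tok → List ℕ
  | .c x => cItems x
  | .s k => [if k = 0 then s0C else s1C]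

theorem sys : Sys data fS sS where
  mul c d hc hd := by
    have h := SLFive.coords.cEl_mul (c := c) (d := d) hc hd
    rw [fMul_eq hc hd h.2]
    exact h.1
  lt c d hc hd := by
    have h := SLFive.coords.cEl_mul (c := c) (d := d) hc hd
    rw [fMul_eq hc hd h.2]
    exact h.2
  inj _ _ hc hd h := SLFive.coords.cEl_inj hc hd h
  conj k hk x hx := by
    have h : (List.range 2).all (fun k => (dgens.getD k []).all fun x =>
        chk ((if k = 0 then s0C else s1C) :: cItems x.1) (cItems x.2 ++ [if k = 0 then s0C else s1C])) = true := by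
      decide +kernel
    have e := chk_spec (List.all_eq_true.1 (List.all_eq_true.1 h k (List.mem_range.2 hk)) x hx)
    simp only [List.map_cons, List.prod_cons, List.map_append, List.prod_append, cItems_prod, List.map_nil,
      List.prod_nil, mul_one] at e
    exact e
  rel w hw := by
    have key : ∀ v : List Tok, (∀ x ∈ v, match x with | .c _ => True | .s k => k < 2) →
        chk (v.flatMap tokItems) [] = true → wEval data fS sS v = 1 := by
      intro v hv hc
      rw [← show (([] : List ℕ).map sl5).prod = 1 from rfl, ← chk_spec hc]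
      clear hc
      induction v with
      | nil => rfl
      | cons x v ih =>
        have e := ih fun y hy => hv y (by simp [hy])
        simp only [wEval, List.map_cons, List.prod_cons, List.flatMap_cons, List.map_append,
          List.prod_append] at e ⊢
        rw [e]
        congr 1
        cases x with
        | c x => exact (cItems_prod x).symm
        | s k =>
          have hk : k < data.K := hv (.s k) (by simp)
          simp [tokItems, tokEl, sx, hk, sS]
    simp only [data, rels, List.mem_cons, List.not_mem_nil, or_false] at hw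
    rcases hw with rfl | rfl | rfl | rfl | rfl | rfl | rfl | rfl | rfl | rfl | rfl
    · exact key _ (by simp) (by decide +kernel)
    · exact key _ (by simp) (by decide +kernel)
    · exact key _ (by simp) (by decide +kernel)
    · exact key _ (by simp) (by decide +kernel)
    · exact key _ (by simp) (by decide +kernel)
    · exact key _ (by simp) (by decide +kernel)
    · exact key _ (by simp) (by decide +kernel)
    · exact wEval_cancel_left data fS sS (k := 0) (by decide)
    · exact wEval_cancel_left data fS sS (k := 1) (by decide)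
    · exact wEval_cancel_right data fS sS (k := 0) (by decide)
    · exact wEval_cancel_right data fS sS (k := 1) (by decide)

theorem isSimple : IsSimpleGroup S5 := by
  have hz : ∀ a : ZMod 2, a = 0 ∨ a = 1 := by decide
  have : Fact (Nat.Prime 2) := ⟨Nat.prime_two⟩
  have := CfsgLib.Classical.isSimpleGroup_PSL (ι := Fin 5) (F := ZMod 2) (by simp)
  have hc : Subgroup.center S5 = ⊥ := by
    rw [eq_bot_iff]
    intro A hA
    obtain ⟨r, hr, hA⟩ := Matrix.SpecialLinearGroup.mem_center_iff.1 hA
    rw [Subgroup.mem_bot]
    apply Subtype.ext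
    rw [← hA]
    rcases hz r with rfl | rfl
    · simp at hr
    · simp
  let e2 : Matrix.ProjectiveSpecialLinearGroup (Fin 5) (ZMod 2) ≃* S5 :=
    (QuotientGroup.quotientMulEquivOfEq hc).trans QuotientGroup.quotientBot
  have : Nontrivial S5 := e2.symm.surjective.nontrivial
  exact IsSimpleGroup.isSimpleGroup_of_surjective e2.toMonoidHom e2.surjective

/-- Words of orders 5 and 31. -/
def primeWords : List (ℕ × List (ℕ × ℕ)) := [(5, [(2051, s1C)]), (31, [(128, s0C), (384, s1C)])]

theorem prime_checks : primeWords.all (fun p =>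
    let items := p.2.flatMap fun c => cItems c.1 ++ [c.2]
    let g := wC items
    items.all genC.contains && Nat.beq (wC (List.replicate p.1 g)) oneC && !Nat.beq g oneC) = true := by
  decide +kernel

theorem mat5_inj {a b : ℕ} (ha : a < 2 ^ 25) (hb : b < 2 ^ 25) (h : mat5 a = mat5 b) : a = b := by
  refine Nat.eq_of_testBit_eq fun p => ?_
  rcases lt_or_ge p 25 with hp | hp
  · have e := congrFun (congrFun h ⟨p / 5, by omega⟩) ⟨p % 5, by omega⟩
    simp only [mat5, Matrix.of_apply, Nat.div_add_mod] at e
    revert e
    cases a.testBit p <;> cases b.testBit p <;> simp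
  · rw [Nat.testBit_lt_two_pow (lt_of_lt_of_le ha (Nat.pow_le_pow_right (by norm_num) hp)),
      Nat.testBit_lt_two_pow (lt_of_lt_of_le hb (Nat.pow_le_pow_right (by norm_num) hp))]

theorem gen_top : Subgroup.closure (Sys.gensSet data fS sS) = ⊤ := by
  set E := Subgroup.closure (Sys.gensSet data fS sS) with hE
  by_contra hne
  have hf : ∀ c < NC, fS c ∈ E := fun c hc => Subgroup.subset_closure (Or.inl ⟨c, hc, rfl⟩)
  have hs : ∀ c : ℕ, c = s0C ∨ c = s1C → sl5 c ∈ E := by
    rintro c (rfl | rfl)
    · exact Subgroup.subset_closure (Or.inr ⟨0, by decide, rfl⟩)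
    · exact Subgroup.subset_closure (Or.inr ⟨1, by decide, rfl⟩)
  have hp : ∀ p ∈ primeWords, p.1.Prime → p.1 ∣ Nat.card ↥E := by
    intro p hp hpr
    have h := List.all_eq_true.1 prime_checks p hp
    simp only [Bool.and_eq_true, List.all_eq_true, List.contains_iff_mem, Bool.not_eq_true'] at h
    obtain ⟨⟨h1, h2⟩, h3⟩ := h
    obtain ⟨hg, he⟩ := good_wC _ fun c hc => gen_good c (h1 c hc)
    set g := wC (p.2.flatMap fun c => cItems c.1 ++ [c.2])
    have hmem : sl5 g ∈ E := by
      have hlt : ∀ c ∈ p.2, c.1 < NC ∧ (c.2 = s0C ∨ c.2 = s1C) := fun c hc => by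
        have := List.all_eq_true.1 (show primeWords.all (fun p => p.2.all fun c =>
          Nat.blt c.1 NC && decide (c.2 = s0C ∨ c.2 = s1C)) = true by decide +kernel) p hp
        simpa using List.all_eq_true.1 this c hc
      rw [he, List.flatMap, List.map_flatten, List.prod_flatten, List.map_map, List.map_map]
      refine list_prod_mem fun z hz => ?_
      obtain ⟨c, hc, rfl⟩ := List.mem_map.1 hz
      simp only [Function.comp_apply, List.map_append, List.prod_append, cItems_prod, List.map_cons, List.map_nil,
        List.prod_singleton]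
      exact mul_mem (hf _ (hlt c hc).1) (hs _ (hlt c hc).2)
    obtain ⟨-, hpow⟩ := good_wC (List.replicate p.1 g) fun c hc => (List.eq_of_mem_replicate hc) ▸ hg
    rw [Nat.eq_of_beq_eq_true h2, sl5_one, List.map_replicate, List.prod_replicate] at hpow
    have := Fact.mk hpr
    have hne1 : sl5 g ≠ 1 := fun e => by
      have e' := congrArg Subtype.val (e.trans sl5_one.symm)
      rw [sl5_coe hg, sl5_coe good_one] at e'
      have hg25 : g < 2 ^ 25 := by
        simp only [g, wC]
        cases (p.2.flatMap fun c => cItems c.1 ++ [c.2]) with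
        | nil => decide
        | cons a l => exact Nat.ofBits_lt_two_pow _
      rw [mat5_inj hg25 (by decide) e'] at h3
      exact absurd h3 (by decide)
    rw [← orderOf_eq_prime hpow.symm hne1]
    exact Subgroup.orderOf_dvd_natCard E hmem
  have hC : 21504 ∣ Nat.card ↥E := by
    rw [← SLFive.coords.cardC]
    refine Subgroup.card_dvd_of_le fun g hg => ?_
    obtain ⟨c, hc, rfl⟩ := SLFive.coords.cEl_surj hg
    exact hf c hc
  have h5 : 5 ∣ Nat.card ↥E := hp (5, [(2051, s1C)]) (by simp [primeWords]) (by norm_num)
  have h31 : 31 ∣ Nat.card ↥E := hp (31, [(128, s0C), (384, s1C)]) (by simp [primeWords]) (by norm_num)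
  have hbig : 21504 * 5 * 31 ∣ Nat.card ↥E :=
    Nat.Coprime.mul_dvd_of_dvd_of_dvd (by norm_num)
      (Nat.Coprime.mul_dvd_of_dvd_of_dvd (by norm_num) hC h5) h31
  obtain ⟨k, hk⟩ := hbig
  have hidx := Subgroup.card_mul_index E
  rw [hk, CfsgLib.JankoFour.TwoTen.Klein.card_SL5] at hidx
  have hk1 : 1 ≤ k := Nat.pos_of_ne_zero fun e => by simp [e] at hidx
  have h3 : E.index ≤ 3 := by
    have : k * E.index = 3 := by linarith
    calc E.index = 1 * E.index := (one_mul _).symm
      _ ≤ k * E.index := Nat.mul_le_mul_right _ hk1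
      _ = 3 := this
  have := isSimple
  have hcore : E.normalCore = ⊥ := (Subgroup.Normal.eq_bot_or_eq_top inferInstance).resolve_right fun e =>
    hne (eq_top_iff.2 (e ▸ Subgroup.normalCore_le E))
  rw [Subgroup.normalCore_eq_ker, MonoidHom.ker_eq_bot_iff] at hcore
  have hcard := Nat.card_le_card_of_injective _ hcore
  rw [CfsgLib.JankoFour.TwoTen.Klein.card_SL5, Nat.card_perm, ← Subgroup.index_eq_card] at hcard
  have h' := hcard.trans (Nat.factorial_le h3)
  norm_num [Nat.factorial] at h'

/-- Every group generated by a system with the certificate is the special linear group. -/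
theorem nonempty_iso {G : Type*} [Group G] {f : ℕ → G} {s : ℕ → G} (S : Sys data f s)
    (hG : Subgroup.closure (Sys.gensSet data f s) = ⊤) : Nonempty (G ≃* S5) := by
  have := isSimple
  obtain ⟨φ, hφ, -, hr⟩ := exists_hom facts_ok end_ok S sys gen_top
    (by rw [CfsgLib.JankoFour.TwoTen.Klein.card_SL5]; decide +kernel)
  have hinj : Function.Injective φ := by
    rw [← MonoidHom.ker_eq_bot_iff]
    refine (Subgroup.Normal.eq_bot_or_eq_top inferInstance).resolve_right fun e => ?_
    have h1 : φ (fS 1) = 1 := MonoidHom.mem_ker.1 (e ▸ Subgroup.mem_top _)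
    rw [hφ 1 (by decide +kernel), ← S.one] at h1
    exact absurd (S.inj 1 0 (by decide +kernel) (by decide +kernel) h1) (by norm_num)
  exact ⟨(MulEquiv.ofBijective φ ⟨hinj, MonoidHom.range_eq_top.1 (hr.trans hG)⟩).symm⟩

end CfsgLib.HeType.Tri.Linear
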