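import Cfsg.Agent.Lib.HeType.Tri.Linear.Data

/-!
# The certificate is correct
-/

set_option autoImplicit false
set_option maxRecDepth 100000
set_option Elab.async false

namespace CfsgLib.HeType.Tri.Linear

theorem facts_ok : factsOk data = true := by decide +kernel

theorem end_ok : endOk data = true := by decide +kernel

end CfsgLib.HeType.Tri.Linear
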