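import Cfsg.Agent.Lib.HeType.Tri.Kill
import Cfsg.Agent.Lib.HeType.Tri.Linear.Data

/-!
Generated data: choices of the values of the relations that no group satisfies.
-/

set_option autoImplicit false
set_option maxRecDepth 100000

namespace CfsgLib.HeType.Tri.Linear

/-- Certificate for one impossible choice. -/
def cross10 : Data where
  K := 2
  dgens := dgens
  rels := [
    [.s 0, .s 0, .s 0], [.s 1, .s 1, .s 1], [.c 656, .s 0, .c 656, .s 0, .c 656, .s 0], [.c 8, .s 0, .c 8, .s 0],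
    [.c 139, .s 1, .c 139, .s 1, .c 139, .s 1], [.c 456, .s 1, .c 456, .s 1],
    [.c 2051, .s 0, .c 1536, .s 1, .c 2051, .s 0, .c 1536, .s 1, .c 10], [.s 2, .s 0], [.s 3, .s 1], [.s 0, .s 2],
    [.s 1, .s 3]]
  defs := [(0,0,0), (1,0,0), (1,0,1)]
  facts := [
    (.pair 0 128 128, .def'),
    (.pair 0 256 256, .def'),
    (.pair 0 384 384, .def'),
    (.pair 0 1 1, .def'),
    (.pair 0 8 8, .def'),
    (.edge 0 0 0 0 1 0, .def'),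
    (.edge 2 0 1 0 0 0, .walk ⟨0, 0, 0⟩ [.ext 0 5 [] []] [] (some (7, 0))),
    (.pair 1 256 256, .walk ⟨256, 0, 0⟩ [.ext 0 5 [] [1]] [.ext 0 5 [5] []] none),
    (.pair 1 1 64, .walk ⟨64, 0, 0⟩ [.ext 0 5 [] [2, 2]] [.ext 0 5 [1, 3, 1, 3] []] none),
    (.pair 1 15365 18176, .walk ⟨18176, 0, 0⟩ [.ext 0 5 [] [0, 0, 0, 0, 0, 2, 0]] [.ext 0 5 [5, 5, 7] []] none),
    (.pair 1 65 1, .walk ⟨1, 0, 0⟩ [.ext 0 5 [] [3]] [.ext 0 5 [0] []] none),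
    (.pair 1 69 5, .walk ⟨5, 0, 0⟩ [.ext 0 5 [] [0, 0, 0, 0, 0, 0, 3, 0]] [.ext 0 5 [0, 2] []] none),
    (.pair 1 457 456, .walk ⟨456, 0, 0⟩ [.ext 0 5 [] [2, 4]] [.ext 0 5 [7, 3, 6, 7] []] none),
    (.edge 0 385 1 0 0 448, .walk ⟨0, 0, 0⟩ [.code 8, .ext 0 5 [7, 3, 6, 7] [2], .code 8] [] (some (3, 1))),
    (.edge 2 0 0 385 1 384, .walk ⟨385, 1, 0⟩ [.ext 0 13 [] []] [] (some (7, 0))),
    (.edge 0 456 1 8 1 384, .walk ⟨8, 1, 0⟩ [.ext 0 13 [0, 7, 3, 6, 7] [], .ext 0 5 [6] []] [] (some (0, 0))),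
    (.edge 2 8 1 456 1 448, .walk ⟨456, 1, 0⟩ [.ext 0 15 [] []] [] (some (7, 0))),
    (.edge 0 16258 1 1536 1 8192, .walk ⟨1536, 1, 0⟩ [.code 656, .ext 0 13 [0, 5, 7, 6, 7] [], .code 656, .ext 0 5 [6, 7, 7, 5, 2] [0, 0, 2, 0], .code 656] [] (some (2, 1))),
    (.edge 2 1536 1 16258 1 8256, .walk ⟨16258, 1, 0⟩ [.ext 0 17 [] []] [] (some (7, 0))),
    (.edge 1 0 0 0 2 0, .def'),
    (.edge 3 0 2 0 0 0, .walk ⟨0, 0, 0⟩ [.ext 1 19 [] []] [] (some (8, 0))),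
    (.pair 2 21434 256, .walk ⟨256, 0, 0⟩ [.ext 1 19 [] [1]] [.ext 1 19 [5] []] none),
    (.pair 2 8 64, .walk ⟨64, 0, 0⟩ [.ext 1 19 [] [2, 2]] [.ext 1 19 [0, 3, 0, 3] []] none),
    (.pair 2 14922 13056, .walk ⟨13056, 0, 0⟩ [.ext 1 19 [] [0, 0, 0, 2, 0, 2]] [.ext 1 19 [7, 0, 6] []] none),
    (.pair 2 1157 449, .walk ⟨449, 0, 0⟩ [.ext 1 19 [] [2, 3]] [.ext 1 19 [0, 3, 0, 3, 6] []] none),
    (.pair 2 72 8, .walk ⟨8, 0, 0⟩ [.ext 1 19 [] [4]] [.ext 1 19 [2] []] none),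
    (.pair 2 32 48, .walk ⟨48, 0, 0⟩ [.ext 1 19 [] [0, 0, 0, 0, 0, 0, 4, 0]] [.ext 1 19 [3, 4] []] none),
    (.edge 1 392 2 0 0 448, .walk ⟨0, 0, 0⟩ [.code 456, .ext 1 19 [0, 2, 3, 0, 3] [2], .code 456] [] (some (5, 1))),
    (.edge 3 0 0 392 2 384, .walk ⟨392, 2, 0⟩ [.ext 1 27 [] []] [] (some (8, 0))),
    (.edge 1 1419 2 1 2 384, .walk ⟨1, 2, 0⟩ [.ext 1 27 [0, 2, 3, 0, 3, 6] [], .ext 1 19 [0, 2, 6, 7, 5, 7] []] [] (some (1, 0))),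
    (.edge 3 1 2 1419 2 448, .walk ⟨1419, 2, 0⟩ [.ext 1 29 [] []] [] (some (8, 0))),
    (.edge 1 3057 2 3844 2 512, .walk ⟨3844, 2, 0⟩ [.code 139, .ext 1 27 [7, 0, 6] [], .code 139, .ext 1 19 [5, 1, 7, 4, 5] [0, 0, 0, 0, 0, 2], .code 139] [] (some (4, 1))),
    (.edge 3 3844 2 3057 2 7424, .walk ⟨3057, 2, 0⟩ [.ext 1 31 [] []] [] (some (8, 0))),
    (.edge 1 0 1 0 3 0, .def'),
    (.edge 3 0 3 0 1 0, .walk ⟨0, 1, 0⟩ [.ext 1 33 [] []] [] (some (8, 0))),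
    (.pair 3 21434 256, .walk ⟨256, 1, 0⟩ [.ext 1 33 [] [7]] [.ext 1 33 [5] []] none),
    (.pair 3 8 65, .walk ⟨64, 1, 0⟩ [.ext 1 33 [] [8, 10]] [.ext 1 33 [0, 3, 0, 3] []] none),
    (.pair 3 21046 69, .walk ⟨68, 1, 0⟩ [.ext 1 33 [] [8, 11]] [.ext 1 33 [4, 1, 4] []] none),
    (.pair 3 1221 456, .walk ⟨457, 1, 0⟩ [.ext 1 33 [] [12]] [.ext 1 33 [2, 6] []] none),
    (.pair 3 19197 9248, .walk ⟨1211, 1, 0⟩ [.ext 1 33 [] [8, 9, 7, 12, 9]] [.ext 1 33 [1, 5, 4, 1, 6] []] none),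
    (.edge 1 1099 3 0 1 64, .walk ⟨0, 1, 0⟩ [.code 456, .ext 1 33 [2, 6] [8], .code 456] [] (some (5, 1))),
    (.edge 3 0 1 1099 3 64, .walk ⟨1099, 3, 0⟩ [.ext 1 40 [] []] [] (some (8, 0))),
    (.edge 1 324 3 1 3 64, .walk ⟨1, 3, 0⟩ [.ext 1 40 [1, 2, 5] [], .ext 1 33 [2, 4, 1, 4, 5] []] [] (some (1, 0))),
    (.edge 3 1 3 324 3 64, .walk ⟨324, 3, 0⟩ [.ext 1 42 [] []] [] (some (8, 0))),
    (.edge 0 18158 3 1536 3 7360, .walk ⟨1536, 3, 0⟩ [.code 2051, .code 10, .ext 1 40 [5, 7, 5, 5, 7] [], .code 1536, .ext 0 17 [1, 5, 4] [7, 7], .code 2051, .ext 1 33 [0, 2, 5, 6, 7, 1] [9], .code 1536] [] (some (6, 1))),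
    (.edge 2 1536 3 18158 3 4928, .walk ⟨18158, 3, 0⟩ [.ext 0 44 [] []] [] (some (7, 0))),
    (.pair 3 18858 0, .walk ⟨1537, 3, 0⟩ [.code 8, .ext 0 44 [1, 3, 6, 5, 7] [35, 39], .code 8, .ext 0 44 [3, 5, 7, 7, 1, 5] [35, 39]] [] (some (3, 1))),
    (.pair 3 18924 0, .walk ⟨1538, 3, 0⟩ [.code 2051, .code 10, .ext 1 42 [1, 2, 7, 7] [], .code 1536, .ext 0 44 [0, 5, 4, 2, 7] [35, 39], .code 2051, .ext 1 42 [2, 7, 5, 5] [], .code 1536, .ext 0 44 [3, 7, 5, 5, 7, 2] [35, 39]] [] (some (6, 1)))]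
  live := []
  reps := []
  close := []
  n := 0

/-- Certificate for one impossible choice. -/
def cross15762 : Data where
  K := 2
  dgens := dgens
  rels := [
    [.s 0, .s 0, .s 0], [.s 1, .s 1, .s 1], [.c 656, .s 0, .c 656, .s 0, .c 656, .s 0], [.c 8, .s 0, .c 8, .s 0],
    [.c 139, .s 1, .c 139, .s 1, .c 139, .s 1], [.c 456, .s 1, .c 456, .s 1],
    [.c 2051, .s 0, .c 1536, .s 1, .c 2051, .s 0, .c 1536, .s 1, .c 15762], [.s 2, .s 0], [.s 3, .s 1],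
    [.s 0, .s 2], [.s 1, .s 3]]
  defs := [(0,0,0), (1,0,0), (1,0,1)]
  facts := [
    (.pair 0 128 128, .def'),
    (.pair 0 256 256, .def'),
    (.pair 0 384 384, .def'),
    (.pair 0 1 1, .def'),
    (.pair 0 8 8, .def'),
    (.edge 0 0 0 0 1 0, .def'),
    (.edge 2 0 1 0 0 0, .walk ⟨0, 0, 0⟩ [.ext 0 5 [] []] [] (some (7, 0))),
    (.pair 1 256 256, .walk ⟨256, 0, 0⟩ [.ext 0 5 [] [1]] [.ext 0 5 [5] []] none),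
    (.pair 1 1 64, .walk ⟨64, 0, 0⟩ [.ext 0 5 [] [2, 2]] [.ext 0 5 [1, 3, 1, 3] []] none),
    (.pair 1 15365 18176, .walk ⟨18176, 0, 0⟩ [.ext 0 5 [] [0, 0, 0, 0, 0, 2, 0]] [.ext 0 5 [5, 5, 7] []] none),
    (.pair 1 65 1, .walk ⟨1, 0, 0⟩ [.ext 0 5 [] [3]] [.ext 0 5 [0] []] none),
    (.pair 1 69 5, .walk ⟨5, 0, 0⟩ [.ext 0 5 [] [0, 0, 0, 0, 0, 0, 3, 0]] [.ext 0 5 [0, 2] []] none),
    (.pair 1 457 456, .walk ⟨456, 0, 0⟩ [.ext 0 5 [] [2, 4]] [.ext 0 5 [7, 3, 6, 7] []] none),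
    (.edge 0 385 1 0 0 448, .walk ⟨0, 0, 0⟩ [.code 8, .ext 0 5 [7, 3, 6, 7] [2], .code 8] [] (some (3, 1))),
    (.edge 2 0 0 385 1 384, .walk ⟨385, 1, 0⟩ [.ext 0 13 [] []] [] (some (7, 0))),
    (.edge 0 456 1 8 1 384, .walk ⟨8, 1, 0⟩ [.ext 0 13 [0, 7, 3, 6, 7] [], .ext 0 5 [6] []] [] (some (0, 0))),
    (.edge 2 8 1 456 1 448, .walk ⟨456, 1, 0⟩ [.ext 0 15 [] []] [] (some (7, 0))),
    (.edge 0 16258 1 1536 1 8192, .walk ⟨1536, 1, 0⟩ [.code 656, .ext 0 13 [0, 5, 7, 6, 7] [], .code 656, .ext 0 5 [6, 7, 7, 5, 2] [0, 0, 2, 0], .code 656] [] (some (2, 1))),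
    (.edge 2 1536 1 16258 1 8256, .walk ⟨16258, 1, 0⟩ [.ext 0 17 [] []] [] (some (7, 0))),
    (.edge 1 0 0 0 2 0, .def'),
    (.edge 3 0 2 0 0 0, .walk ⟨0, 0, 0⟩ [.ext 1 19 [] []] [] (some (8, 0))),
    (.pair 2 21434 256, .walk ⟨256, 0, 0⟩ [.ext 1 19 [] [1]] [.ext 1 19 [5] []] none),
    (.pair 2 8 64, .walk ⟨64, 0, 0⟩ [.ext 1 19 [] [2, 2]] [.ext 1 19 [0, 3, 0, 3] []] none),
    (.pair 2 14922 13056, .walk ⟨13056, 0, 0⟩ [.ext 1 19 [] [0, 0, 0, 2, 0, 2]] [.ext 1 19 [7, 0, 6] []] none),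
    (.pair 2 1157 449, .walk ⟨449, 0, 0⟩ [.ext 1 19 [] [2, 3]] [.ext 1 19 [0, 3, 0, 3, 6] []] none),
    (.pair 2 72 8, .walk ⟨8, 0, 0⟩ [.ext 1 19 [] [4]] [.ext 1 19 [2] []] none),
    (.pair 2 32 48, .walk ⟨48, 0, 0⟩ [.ext 1 19 [] [0, 0, 0, 0, 0, 0, 4, 0]] [.ext 1 19 [3, 4] []] none),
    (.edge 1 392 2 0 0 448, .walk ⟨0, 0, 0⟩ [.code 456, .ext 1 19 [0, 2, 3, 0, 3] [2], .code 456] [] (some (5, 1))),
    (.edge 3 0 0 392 2 384, .walk ⟨392, 2, 0⟩ [.ext 1 27 [] []] [] (some (8, 0))),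
    (.edge 1 1419 2 1 2 384, .walk ⟨1, 2, 0⟩ [.ext 1 27 [0, 2, 3, 0, 3, 6] [], .ext 1 19 [0, 2, 6, 7, 5, 7] []] [] (some (1, 0))),
    (.edge 3 1 2 1419 2 448, .walk ⟨1419, 2, 0⟩ [.ext 1 29 [] []] [] (some (8, 0))),
    (.edge 1 3057 2 3844 2 512, .walk ⟨3844, 2, 0⟩ [.code 139, .ext 1 27 [7, 0, 6] [], .code 139, .ext 1 19 [5, 1, 7, 4, 5] [0, 0, 0, 0, 0, 2], .code 139] [] (some (4, 1))),
    (.edge 3 3844 2 3057 2 7424, .walk ⟨3057, 2, 0⟩ [.ext 1 31 [] []] [] (some (8, 0))),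
    (.edge 1 0 1 0 3 0, .def'),
    (.edge 3 0 3 0 1 0, .walk ⟨0, 1, 0⟩ [.ext 1 33 [] []] [] (some (8, 0))),
    (.pair 3 21434 256, .walk ⟨256, 1, 0⟩ [.ext 1 33 [] [7]] [.ext 1 33 [5] []] none),
    (.pair 3 8 65, .walk ⟨64, 1, 0⟩ [.ext 1 33 [] [8, 10]] [.ext 1 33 [0, 3, 0, 3] []] none),
    (.pair 3 21046 69, .walk ⟨68, 1, 0⟩ [.ext 1 33 [] [8, 11]] [.ext 1 33 [4, 1, 4] []] none),
    (.pair 3 1221 456, .walk ⟨457, 1, 0⟩ [.ext 1 33 [] [12]] [.ext 1 33 [2, 6] []] none),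
    (.pair 3 19197 9248, .walk ⟨1211, 1, 0⟩ [.ext 1 33 [] [8, 9, 7, 12, 9]] [.ext 1 33 [1, 5, 4, 1, 6] []] none),
    (.edge 1 1099 3 0 1 64, .walk ⟨0, 1, 0⟩ [.code 456, .ext 1 33 [2, 6] [8], .code 456] [] (some (5, 1))),
    (.edge 3 0 1 1099 3 64, .walk ⟨1099, 3, 0⟩ [.ext 1 40 [] []] [] (some (8, 0))),
    (.edge 1 324 3 1 3 64, .walk ⟨1, 3, 0⟩ [.ext 1 40 [1, 2, 5] [], .ext 1 33 [2, 4, 1, 4, 5] []] [] (some (1, 0))),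
    (.edge 3 1 3 324 3 64, .walk ⟨324, 3, 0⟩ [.ext 1 42 [] []] [] (some (8, 0))),
    (.edge 0 6398 3 1536 3 7360, .walk ⟨1536, 3, 0⟩ [.code 2051, .code 15762, .ext 1 40 [1, 7, 3, 5, 7] [], .code 1536, .ext 0 17 [5, 6, 7, 1, 2] [7, 7], .code 2051, .ext 1 33 [3, 7, 5, 6] [9], .code 1536] [] (some (6, 1))),
    (.edge 2 1536 3 6398 3 4928, .walk ⟨6398, 3, 0⟩ [.ext 0 44 [] []] [] (some (7, 0))),
    (.pair 3 15838 0, .walk ⟨1537, 3, 0⟩ [.ext 0 44 [0, 1, 2, 3, 6] [], .ext 0 44 [0, 5, 7, 2] [], .ext 0 44 [0, 7, 5, 6, 7, 5] []] [] (some (0, 0))),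
    (.pair 3 70 0, .walk ⟨1538, 3, 0⟩ [.code 2051, .code 15762, .ext 1 42 [0, 3] [], .code 1536, .ext 0 44 [4, 7, 1, 5] [35, 39], .code 2051, .ext 1 42 [7, 4, 6, 7, 0] [], .code 1536, .ext 0 44 [0, 1] [35, 39]] [] (some (6, 1)))]
  live := []
  reps := []
  close := []
  n := 0

/-- Certificate for one impossible choice. -/
def cross15768 : Data where
  K := 2
  dgens := dgens
  rels := [
    [.s 0, .s 0, .s 0], [.s 1, .s 1, .s 1], [.c 656, .s 0, .c 656, .s 0, .c 656, .s 0], [.c 8, .s 0, .c 8, .s 0],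
    [.c 139, .s 1, .c 139, .s 1, .c 139, .s 1], [.c 456, .s 1, .c 456, .s 1],
    [.c 2051, .s 0, .c 1536, .s 1, .c 2051, .s 0, .c 1536, .s 1, .c 15768], [.s 2, .s 0], [.s 3, .s 1],
    [.s 0, .s 2], [.s 1, .s 3]]
  defs := [(0,0,0), (1,0,0), (1,0,1)]
  facts := [
    (.pair 0 128 128, .def'),
    (.pair 0 256 256, .def'),
    (.pair 0 384 384, .def'),
    (.pair 0 1 1, .def'),
    (.pair 0 8 8, .def'),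
    (.edge 0 0 0 0 1 0, .def'),
    (.edge 2 0 1 0 0 0, .walk ⟨0, 0, 0⟩ [.ext 0 5 [] []] [] (some (7, 0))),
    (.pair 1 256 256, .walk ⟨256, 0, 0⟩ [.ext 0 5 [] [1]] [.ext 0 5 [5] []] none),
    (.pair 1 1 64, .walk ⟨64, 0, 0⟩ [.ext 0 5 [] [2, 2]] [.ext 0 5 [1, 3, 1, 3] []] none),
    (.pair 1 15365 18176, .walk ⟨18176, 0, 0⟩ [.ext 0 5 [] [0, 0, 0, 0, 0, 2, 0]] [.ext 0 5 [5, 5, 7] []] none),
    (.pair 1 65 1, .walk ⟨1, 0, 0⟩ [.ext 0 5 [] [3]] [.ext 0 5 [0] []] none),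
    (.pair 1 69 5, .walk ⟨5, 0, 0⟩ [.ext 0 5 [] [0, 0, 0, 0, 0, 0, 3, 0]] [.ext 0 5 [0, 2] []] none),
    (.pair 1 457 456, .walk ⟨456, 0, 0⟩ [.ext 0 5 [] [2, 4]] [.ext 0 5 [7, 3, 6, 7] []] none),
    (.edge 0 385 1 0 0 448, .walk ⟨0, 0, 0⟩ [.code 8, .ext 0 5 [7, 3, 6, 7] [2], .code 8] [] (some (3, 1))),
    (.edge 2 0 0 385 1 384, .walk ⟨385, 1, 0⟩ [.ext 0 13 [] []] [] (some (7, 0))),
    (.edge 0 456 1 8 1 384, .walk ⟨8, 1, 0⟩ [.ext 0 13 [0, 7, 3, 6, 7] [], .ext 0 5 [6] []] [] (some (0, 0))),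
    (.edge 2 8 1 456 1 448, .walk ⟨456, 1, 0⟩ [.ext 0 15 [] []] [] (some (7, 0))),
    (.edge 0 16258 1 1536 1 8192, .walk ⟨1536, 1, 0⟩ [.code 656, .ext 0 13 [0, 5, 7, 6, 7] [], .code 656, .ext 0 5 [6, 7, 7, 5, 2] [0, 0, 2, 0], .code 656] [] (some (2, 1))),
    (.edge 2 1536 1 16258 1 8256, .walk ⟨16258, 1, 0⟩ [.ext 0 17 [] []] [] (some (7, 0))),
    (.edge 1 0 0 0 2 0, .def'),
    (.edge 3 0 2 0 0 0, .walk ⟨0, 0, 0⟩ [.ext 1 19 [] []] [] (some (8, 0))),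
    (.pair 2 21434 256, .walk ⟨256, 0, 0⟩ [.ext 1 19 [] [1]] [.ext 1 19 [5] []] none),
    (.pair 2 8 64, .walk ⟨64, 0, 0⟩ [.ext 1 19 [] [2, 2]] [.ext 1 19 [0, 3, 0, 3] []] none),
    (.pair 2 14922 13056, .walk ⟨13056, 0, 0⟩ [.ext 1 19 [] [0, 0, 0, 2, 0, 2]] [.ext 1 19 [7, 0, 6] []] none),
    (.pair 2 1157 449, .walk ⟨449, 0, 0⟩ [.ext 1 19 [] [2, 3]] [.ext 1 19 [0, 3, 0, 3, 6] []] none),
    (.pair 2 72 8, .walk ⟨8, 0, 0⟩ [.ext 1 19 [] [4]] [.ext 1 19 [2] []] none),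
    (.pair 2 32 48, .walk ⟨48, 0, 0⟩ [.ext 1 19 [] [0, 0, 0, 0, 0, 0, 4, 0]] [.ext 1 19 [3, 4] []] none),
    (.edge 1 392 2 0 0 448, .walk ⟨0, 0, 0⟩ [.code 456, .ext 1 19 [0, 2, 3, 0, 3] [2], .code 456] [] (some (5, 1))),
    (.edge 3 0 0 392 2 384, .walk ⟨392, 2, 0⟩ [.ext 1 27 [] []] [] (some (8, 0))),
    (.edge 1 1419 2 1 2 384, .walk ⟨1, 2, 0⟩ [.ext 1 27 [0, 2, 3, 0, 3, 6] [], .ext 1 19 [0, 2, 6, 7, 5, 7] []] [] (some (1, 0))),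
    (.edge 3 1 2 1419 2 448, .walk ⟨1419, 2, 0⟩ [.ext 1 29 [] []] [] (some (8, 0))),
    (.edge 1 3057 2 3844 2 512, .walk ⟨3844, 2, 0⟩ [.code 139, .ext 1 27 [7, 0, 6] [], .code 139, .ext 1 19 [5, 1, 7, 4, 5] [0, 0, 0, 0, 0, 2], .code 139] [] (some (4, 1))),
    (.edge 3 3844 2 3057 2 7424, .walk ⟨3057, 2, 0⟩ [.ext 1 31 [] []] [] (some (8, 0))),
    (.edge 1 0 1 0 3 0, .def'),
    (.edge 3 0 3 0 1 0, .walk ⟨0, 1, 0⟩ [.ext 1 33 [] []] [] (some (8, 0))),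
    (.pair 3 21434 256, .walk ⟨256, 1, 0⟩ [.ext 1 33 [] [7]] [.ext 1 33 [5] []] none),
    (.pair 3 8 65, .walk ⟨64, 1, 0⟩ [.ext 1 33 [] [8, 10]] [.ext 1 33 [0, 3, 0, 3] []] none),
    (.pair 3 21046 69, .walk ⟨68, 1, 0⟩ [.ext 1 33 [] [8, 11]] [.ext 1 33 [4, 1, 4] []] none),
    (.pair 3 1221 456, .walk ⟨457, 1, 0⟩ [.ext 1 33 [] [12]] [.ext 1 33 [2, 6] []] none),
    (.pair 3 19197 9248, .walk ⟨1211, 1, 0⟩ [.ext 1 33 [] [8, 9, 7, 12, 9]] [.ext 1 33 [1, 5, 4, 1, 6] []] none),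
    (.edge 1 1099 3 0 1 64, .walk ⟨0, 1, 0⟩ [.code 456, .ext 1 33 [2, 6] [8], .code 456] [] (some (5, 1))),
    (.edge 3 0 1 1099 3 64, .walk ⟨1099, 3, 0⟩ [.ext 1 40 [] []] [] (some (8, 0))),
    (.edge 1 324 3 1 3 64, .walk ⟨1, 3, 0⟩ [.ext 1 40 [1, 2, 5] [], .ext 1 33 [2, 4, 1, 4, 5] []] [] (some (1, 0))),
    (.edge 3 1 3 324 3 64, .walk ⟨324, 3, 0⟩ [.ext 1 42 [] []] [] (some (8, 0))),
    (.edge 0 10145 3 1536 3 7360, .walk ⟨1536, 3, 0⟩ [.code 2051, .code 15768, .ext 1 40 [0, 3, 0, 5, 5] [], .code 1536, .ext 0 17 [0, 1, 3, 6, 5] [7, 7], .code 2051, .ext 1 33 [6, 7, 4, 5, 1] [9], .code 1536] [] (some (6, 1))),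
    (.edge 2 1536 3 10145 3 4928, .walk ⟨10145, 3, 0⟩ [.ext 0 44 [] []] [] (some (7, 0))),
    (.pair 3 15838 0, .walk ⟨1537, 3, 0⟩ [.ext 0 44 [5, 6, 7, 5, 5] [], .ext 0 44 [1, 7, 4, 5] [], .ext 0 44 [0, 7, 5, 6, 7, 5] []] [] (some (0, 0))),
    (.pair 3 20707 20304, .walk ⟨1546, 3, 0⟩ [.code 2051, .code 15768, .ext 1 42 [2] [], .code 1536, .ext 0 44 [1, 5, 5, 7, 6, 5] [], .code 2051, .ext 1 42 [5, 7, 3, 0] [], .code 1536, .ext 0 44 [2, 5, 5, 7, 6, 5] [35, 39]] [] (some (6, 1)))]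
  live := []
  reps := []
  close := []
  n := 0

/-- Certificate for one impossible choice. -/
def cross18916 : Data where
  K := 2
  dgens := dgens
  rels := [
    [.s 0, .s 0, .s 0], [.s 1, .s 1, .s 1], [.c 656, .s 0, .c 656, .s 0, .c 656, .s 0], [.c 8, .s 0, .c 8, .s 0],
    [.c 139, .s 1, .c 139, .s 1, .c 139, .s 1], [.c 456, .s 1, .c 456, .s 1],
    [.c 2051, .s 0, .c 1536, .s 1, .c 2051, .s 0, .c 1536, .s 1, .c 18916], [.s 2, .s 0], [.s 3, .s 1],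
    [.s 0, .s 2], [.s 1, .s 3]]
  defs := [(0,0,0), (1,0,0), (1,0,1)]
  facts := [
    (.pair 0 128 128, .def'),
    (.pair 0 256 256, .def'),
    (.pair 0 384 384, .def'),
    (.pair 0 1 1, .def'),
    (.pair 0 8 8, .def'),
    (.edge 0 0 0 0 1 0, .def'),
    (.edge 2 0 1 0 0 0, .walk ⟨0, 0, 0⟩ [.ext 0 5 [] []] [] (some (7, 0))),
    (.pair 1 256 256, .walk ⟨256, 0, 0⟩ [.ext 0 5 [] [1]] [.ext 0 5 [5] []] none),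
    (.pair 1 1 64, .walk ⟨64, 0, 0⟩ [.ext 0 5 [] [2, 2]] [.ext 0 5 [1, 3, 1, 3] []] none),
    (.pair 1 15365 18176, .walk ⟨18176, 0, 0⟩ [.ext 0 5 [] [0, 0, 0, 0, 0, 2, 0]] [.ext 0 5 [5, 5, 7] []] none),
    (.pair 1 65 1, .walk ⟨1, 0, 0⟩ [.ext 0 5 [] [3]] [.ext 0 5 [0] []] none),
    (.pair 1 69 5, .walk ⟨5, 0, 0⟩ [.ext 0 5 [] [0, 0, 0, 0, 0, 0, 3, 0]] [.ext 0 5 [0, 2] []] none),
    (.pair 1 457 456, .walk ⟨456, 0, 0⟩ [.ext 0 5 [] [2, 4]] [.ext 0 5 [7, 3, 6, 7] []] none),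
    (.edge 0 385 1 0 0 448, .walk ⟨0, 0, 0⟩ [.code 8, .ext 0 5 [7, 3, 6, 7] [2], .code 8] [] (some (3, 1))),
    (.edge 2 0 0 385 1 384, .walk ⟨385, 1, 0⟩ [.ext 0 13 [] []] [] (some (7, 0))),
    (.edge 0 456 1 8 1 384, .walk ⟨8, 1, 0⟩ [.ext 0 13 [0, 7, 3, 6, 7] [], .ext 0 5 [6] []] [] (some (0, 0))),
    (.edge 2 8 1 456 1 448, .walk ⟨456, 1, 0⟩ [.ext 0 15 [] []] [] (some (7, 0))),
    (.edge 0 16258 1 1536 1 8192, .walk ⟨1536, 1, 0⟩ [.code 656, .ext 0 13 [0, 5, 7, 6, 7] [], .code 656, .ext 0 5 [6, 7, 7, 5, 2] [0, 0, 2, 0], .code 656] [] (some (2, 1))),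
    (.edge 2 1536 1 16258 1 8256, .walk ⟨16258, 1, 0⟩ [.ext 0 17 [] []] [] (some (7, 0))),
    (.edge 1 0 0 0 2 0, .def'),
    (.edge 3 0 2 0 0 0, .walk ⟨0, 0, 0⟩ [.ext 1 19 [] []] [] (some (8, 0))),
    (.pair 2 21434 256, .walk ⟨256, 0, 0⟩ [.ext 1 19 [] [1]] [.ext 1 19 [5] []] none),
    (.pair 2 8 64, .walk ⟨64, 0, 0⟩ [.ext 1 19 [] [2, 2]] [.ext 1 19 [0, 3, 0, 3] []] none),
    (.pair 2 14922 13056, .walk ⟨13056, 0, 0⟩ [.ext 1 19 [] [0, 0, 0, 2, 0, 2]] [.ext 1 19 [7, 0, 6] []] none),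
    (.pair 2 1157 449, .walk ⟨449, 0, 0⟩ [.ext 1 19 [] [2, 3]] [.ext 1 19 [0, 3, 0, 3, 6] []] none),
    (.pair 2 72 8, .walk ⟨8, 0, 0⟩ [.ext 1 19 [] [4]] [.ext 1 19 [2] []] none),
    (.pair 2 32 48, .walk ⟨48, 0, 0⟩ [.ext 1 19 [] [0, 0, 0, 0, 0, 0, 4, 0]] [.ext 1 19 [3, 4] []] none),
    (.edge 1 392 2 0 0 448, .walk ⟨0, 0, 0⟩ [.code 456, .ext 1 19 [0, 2, 3, 0, 3] [2], .code 456] [] (some (5, 1))),
    (.edge 3 0 0 392 2 384, .walk ⟨392, 2, 0⟩ [.ext 1 27 [] []] [] (some (8, 0))),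
    (.edge 1 1419 2 1 2 384, .walk ⟨1, 2, 0⟩ [.ext 1 27 [0, 2, 3, 0, 3, 6] [], .ext 1 19 [0, 2, 6, 7, 5, 7] []] [] (some (1, 0))),
    (.edge 3 1 2 1419 2 448, .walk ⟨1419, 2, 0⟩ [.ext 1 29 [] []] [] (some (8, 0))),
    (.edge 1 3057 2 3844 2 512, .walk ⟨3844, 2, 0⟩ [.code 139, .ext 1 27 [7, 0, 6] [], .code 139, .ext 1 19 [5, 1, 7, 4, 5] [0, 0, 0, 0, 0, 2], .code 139] [] (some (4, 1))),
    (.edge 3 3844 2 3057 2 7424, .walk ⟨3057, 2, 0⟩ [.ext 1 31 [] []] [] (some (8, 0))),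
    (.edge 1 0 1 0 3 0, .def'),
    (.edge 3 0 3 0 1 0, .walk ⟨0, 1, 0⟩ [.ext 1 33 [] []] [] (some (8, 0))),
    (.pair 3 21434 256, .walk ⟨256, 1, 0⟩ [.ext 1 33 [] [7]] [.ext 1 33 [5] []] none),
    (.pair 3 8 65, .walk ⟨64, 1, 0⟩ [.ext 1 33 [] [8, 10]] [.ext 1 33 [0, 3, 0, 3] []] none),
    (.pair 3 21046 69, .walk ⟨68, 1, 0⟩ [.ext 1 33 [] [8, 11]] [.ext 1 33 [4, 1, 4] []] none),
    (.pair 3 1221 456, .walk ⟨457, 1, 0⟩ [.ext 1 33 [] [12]] [.ext 1 33 [2, 6] []] none),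
    (.pair 3 19197 9248, .walk ⟨1211, 1, 0⟩ [.ext 1 33 [] [8, 9, 7, 12, 9]] [.ext 1 33 [1, 5, 4, 1, 6] []] none),
    (.edge 1 1099 3 0 1 64, .walk ⟨0, 1, 0⟩ [.code 456, .ext 1 33 [2, 6] [8], .code 456] [] (some (5, 1))),
    (.edge 3 0 1 1099 3 64, .walk ⟨1099, 3, 0⟩ [.ext 1 40 [] []] [] (some (8, 0))),
    (.edge 1 324 3 1 3 64, .walk ⟨1, 3, 0⟩ [.ext 1 40 [1, 2, 5] [], .ext 1 33 [2, 4, 1, 4, 5] []] [] (some (1, 0))),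
    (.edge 3 1 3 324 3 64, .walk ⟨324, 3, 0⟩ [.ext 1 42 [] []] [] (some (8, 0))),
    (.edge 0 10184 3 1536 3 7360, .walk ⟨1536, 3, 0⟩ [.code 2051, .code 18916, .ext 1 40 [5, 5, 7, 4, 7] [], .code 1536, .ext 0 17 [1, 6, 3, 5] [7, 7], .code 2051, .ext 1 33 [4, 7, 0, 7] [9], .code 1536] [] (some (6, 1))),
    (.edge 2 1536 3 10184 3 4928, .walk ⟨10184, 3, 0⟩ [.ext 0 44 [] []] [] (some (7, 0))),
    (.pair 3 15838 0, .walk ⟨1537, 3, 0⟩ [.ext 0 44 [0, 5, 7, 7, 5, 6] [], .ext 0 44 [0, 2, 5, 7, 4] [], .ext 0 44 [0, 7, 5, 6, 7, 5] []] [] (some (0, 0))),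
    (.pair 3 70 0, .walk ⟨1538, 3, 0⟩ [.code 2051, .code 18916, .ext 1 42 [1, 4, 5, 6, 7] [], .code 1536, .ext 0 44 [0, 4, 7, 1, 5] [35, 39], .code 2051, .ext 1 42 [3, 7, 6, 3, 7] [], .code 1536, .ext 0 44 [0, 1] [35, 39]] [] (some (6, 1)))]
  live := []
  reps := []
  close := []
  n := 0

/-- Certificate for one impossible choice. -/
def cross18926 : Data where
  K := 2
  dgens := dgens
  rels := [
    [.s 0, .s 0, .s 0], [.s 1, .s 1, .s 1], [.c 656, .s 0, .c 656, .s 0, .c 656, .s 0], [.c 8, .s 0, .c 8, .s 0],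
    [.c 139, .s 1, .c 139, .s 1, .c 139, .s 1], [.c 456, .s 1, .c 456, .s 1],
    [.c 2051, .s 0, .c 1536, .s 1, .c 2051, .s 0, .c 1536, .s 1, .c 18926], [.s 2, .s 0], [.s 3, .s 1],
    [.s 0, .s 2], [.s 1, .s 3]]
  defs := [(0,0,0), (1,0,0), (1,0,1)]
  facts := [
    (.pair 0 128 128, .def'),
    (.pair 0 256 256, .def'),
    (.pair 0 384 384, .def'),
    (.pair 0 1 1, .def'),
    (.pair 0 8 8, .def'),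
    (.edge 0 0 0 0 1 0, .def'),
    (.edge 2 0 1 0 0 0, .walk ⟨0, 0, 0⟩ [.ext 0 5 [] []] [] (some (7, 0))),
    (.pair 1 256 256, .walk ⟨256, 0, 0⟩ [.ext 0 5 [] [1]] [.ext 0 5 [5] []] none),
    (.pair 1 1 64, .walk ⟨64, 0, 0⟩ [.ext 0 5 [] [2, 2]] [.ext 0 5 [1, 3, 1, 3] []] none),
    (.pair 1 15365 18176, .walk ⟨18176, 0, 0⟩ [.ext 0 5 [] [0, 0, 0, 0, 0, 2, 0]] [.ext 0 5 [5, 5, 7] []] none),
    (.pair 1 65 1, .walk ⟨1, 0, 0⟩ [.ext 0 5 [] [3]] [.ext 0 5 [0] []] none),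
    (.pair 1 69 5, .walk ⟨5, 0, 0⟩ [.ext 0 5 [] [0, 0, 0, 0, 0, 0, 3, 0]] [.ext 0 5 [0, 2] []] none),
    (.pair 1 457 456, .walk ⟨456, 0, 0⟩ [.ext 0 5 [] [2, 4]] [.ext 0 5 [7, 3, 6, 7] []] none),
    (.edge 0 385 1 0 0 448, .walk ⟨0, 0, 0⟩ [.code 8, .ext 0 5 [7, 3, 6, 7] [2], .code 8] [] (some (3, 1))),
    (.edge 2 0 0 385 1 384, .walk ⟨385, 1, 0⟩ [.ext 0 13 [] []] [] (some (7, 0))),
    (.edge 0 456 1 8 1 384, .walk ⟨8, 1, 0⟩ [.ext 0 13 [0, 7, 3, 6, 7] [], .ext 0 5 [6] []] [] (some (0, 0))),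
    (.edge 2 8 1 456 1 448, .walk ⟨456, 1, 0⟩ [.ext 0 15 [] []] [] (some (7, 0))),
    (.edge 0 16258 1 1536 1 8192, .walk ⟨1536, 1, 0⟩ [.code 656, .ext 0 13 [0, 5, 7, 6, 7] [], .code 656, .ext 0 5 [6, 7, 7, 5, 2] [0, 0, 2, 0], .code 656] [] (some (2, 1))),
    (.edge 2 1536 1 16258 1 8256, .walk ⟨16258, 1, 0⟩ [.ext 0 17 [] []] [] (some (7, 0))),
    (.edge 1 0 0 0 2 0, .def'),
    (.edge 3 0 2 0 0 0, .walk ⟨0, 0, 0⟩ [.ext 1 19 [] []] [] (some (8, 0))),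
    (.pair 2 21434 256, .walk ⟨256, 0, 0⟩ [.ext 1 19 [] [1]] [.ext 1 19 [5] []] none),
    (.pair 2 8 64, .walk ⟨64, 0, 0⟩ [.ext 1 19 [] [2, 2]] [.ext 1 19 [0, 3, 0, 3] []] none),
    (.pair 2 14922 13056, .walk ⟨13056, 0, 0⟩ [.ext 1 19 [] [0, 0, 0, 2, 0, 2]] [.ext 1 19 [7, 0, 6] []] none),
    (.pair 2 1157 449, .walk ⟨449, 0, 0⟩ [.ext 1 19 [] [2, 3]] [.ext 1 19 [0, 3, 0, 3, 6] []] none),
    (.pair 2 72 8, .walk ⟨8, 0, 0⟩ [.ext 1 19 [] [4]] [.ext 1 19 [2] []] none),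
    (.pair 2 32 48, .walk ⟨48, 0, 0⟩ [.ext 1 19 [] [0, 0, 0, 0, 0, 0, 4, 0]] [.ext 1 19 [3, 4] []] none),
    (.edge 1 392 2 0 0 448, .walk ⟨0, 0, 0⟩ [.code 456, .ext 1 19 [0, 2, 3, 0, 3] [2], .code 456] [] (some (5, 1))),
    (.edge 3 0 0 392 2 384, .walk ⟨392, 2, 0⟩ [.ext 1 27 [] []] [] (some (8, 0))),
    (.edge 1 1419 2 1 2 384, .walk ⟨1, 2, 0⟩ [.ext 1 27 [0, 2, 3, 0, 3, 6] [], .ext 1 19 [0, 2, 6, 7, 5, 7] []] [] (some (1, 0))),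
    (.edge 3 1 2 1419 2 448, .walk ⟨1419, 2, 0⟩ [.ext 1 29 [] []] [] (some (8, 0))),
    (.edge 1 3057 2 3844 2 512, .walk ⟨3844, 2, 0⟩ [.code 139, .ext 1 27 [7, 0, 6] [], .code 139, .ext 1 19 [5, 1, 7, 4, 5] [0, 0, 0, 0, 0, 2], .code 139] [] (some (4, 1))),
    (.edge 3 3844 2 3057 2 7424, .walk ⟨3057, 2, 0⟩ [.ext 1 31 [] []] [] (some (8, 0))),
    (.edge 1 0 1 0 3 0, .def'),
    (.edge 3 0 3 0 1 0, .walk ⟨0, 1, 0⟩ [.ext 1 33 [] []] [] (some (8, 0))),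
    (.pair 3 21434 256, .walk ⟨256, 1, 0⟩ [.ext 1 33 [] [7]] [.ext 1 33 [5] []] none),
    (.pair 3 8 65, .walk ⟨64, 1, 0⟩ [.ext 1 33 [] [8, 10]] [.ext 1 33 [0, 3, 0, 3] []] none),
    (.pair 3 21046 69, .walk ⟨68, 1, 0⟩ [.ext 1 33 [] [8, 11]] [.ext 1 33 [4, 1, 4] []] none),
    (.pair 3 1221 456, .walk ⟨457, 1, 0⟩ [.ext 1 33 [] [12]] [.ext 1 33 [2, 6] []] none),
    (.pair 3 19197 9248, .walk ⟨1211, 1, 0⟩ [.ext 1 33 [] [8, 9, 7, 12, 9]] [.ext 1 33 [1, 5, 4, 1, 6] []] none),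
    (.edge 1 1099 3 0 1 64, .walk ⟨0, 1, 0⟩ [.code 456, .ext 1 33 [2, 6] [8], .code 456] [] (some (5, 1))),
    (.edge 3 0 1 1099 3 64, .walk ⟨1099, 3, 0⟩ [.ext 1 40 [] []] [] (some (8, 0))),
    (.edge 1 324 3 1 3 64, .walk ⟨1, 3, 0⟩ [.ext 1 40 [1, 2, 5] [], .ext 1 33 [2, 4, 1, 4, 5] []] [] (some (1, 0))),
    (.edge 3 1 3 324 3 64, .walk ⟨324, 3, 0⟩ [.ext 1 42 [] []] [] (some (8, 0))),
    (.edge 0 6295 3 1536 3 7360, .walk ⟨1536, 3, 0⟩ [.code 2051, .code 18926, .ext 1 40 [1, 4, 5, 7, 6] [], .code 1536, .ext 0 17 [2, 5, 7, 7, 6] [7, 7], .code 2051, .ext 1 33 [7, 1, 7, 4] [9], .code 1536] [] (some (6, 1))),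
    (.edge 2 1536 3 6295 3 4928, .walk ⟨6295, 3, 0⟩ [.ext 0 44 [] []] [] (some (7, 0))),
    (.pair 3 15838 0, .walk ⟨1537, 3, 0⟩ [.ext 0 44 [1, 6, 3, 1] [], .ext 0 44 [7, 2, 3, 5] [], .ext 0 44 [0, 7, 5, 6, 7, 5] []] [] (some (0, 0))),
    (.pair 3 20707 20304, .walk ⟨1546, 3, 0⟩ [.code 2051, .code 18926, .ext 1 42 [2, 5, 4, 1, 6, 7] [], .code 1536, .ext 0 44 [5, 7, 7, 2, 5, 6] [], .code 2051, .ext 1 42 [2, 4, 5, 7] [], .code 1536, .ext 0 44 [2, 5, 5, 7, 6, 5] [35, 39]] [] (some (6, 1)))]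
  live := []
  reps := []
  close := []
  n := 0

/-- Certificate for one impossible choice. -/
def cross21044 : Data where
  K := 2
  dgens := dgens
  rels := [
    [.s 0, .s 0, .s 0], [.s 1, .s 1, .s 1], [.c 656, .s 0, .c 656, .s 0, .c 656, .s 0], [.c 8, .s 0, .c 8, .s 0],
    [.c 139, .s 1, .c 139, .s 1, .c 139, .s 1], [.c 456, .s 1, .c 456, .s 1],
    [.c 2051, .s 0, .c 1536, .s 1, .c 2051, .s 0, .c 1536, .s 1, .c 21044], [.s 2, .s 0], [.s 3, .s 1],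
    [.s 0, .s 2], [.s 1, .s 3]]
  defs := [(0,0,0), (1,0,0), (1,0,1)]
  facts := [
    (.pair 0 128 128, .def'),
    (.pair 0 256 256, .def'),
    (.pair 0 384 384, .def'),
    (.pair 0 1 1, .def'),
    (.pair 0 8 8, .def'),
    (.edge 0 0 0 0 1 0, .def'),
    (.edge 2 0 1 0 0 0, .walk ⟨0, 0, 0⟩ [.ext 0 5 [] []] [] (some (7, 0))),
    (.pair 1 256 256, .walk ⟨256, 0, 0⟩ [.ext 0 5 [] [1]] [.ext 0 5 [5] []] none),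
    (.pair 1 1 64, .walk ⟨64, 0, 0⟩ [.ext 0 5 [] [2, 2]] [.ext 0 5 [1, 3, 1, 3] []] none),
    (.pair 1 15365 18176, .walk ⟨18176, 0, 0⟩ [.ext 0 5 [] [0, 0, 0, 0, 0, 2, 0]] [.ext 0 5 [5, 5, 7] []] none),
    (.pair 1 65 1, .walk ⟨1, 0, 0⟩ [.ext 0 5 [] [3]] [.ext 0 5 [0] []] none),
    (.pair 1 69 5, .walk ⟨5, 0, 0⟩ [.ext 0 5 [] [0, 0, 0, 0, 0, 0, 3, 0]] [.ext 0 5 [0, 2] []] none),
    (.pair 1 457 456, .walk ⟨456, 0, 0⟩ [.ext 0 5 [] [2, 4]] [.ext 0 5 [7, 3, 6, 7] []] none),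
    (.edge 0 385 1 0 0 448, .walk ⟨0, 0, 0⟩ [.code 8, .ext 0 5 [7, 3, 6, 7] [2], .code 8] [] (some (3, 1))),
    (.edge 2 0 0 385 1 384, .walk ⟨385, 1, 0⟩ [.ext 0 13 [] []] [] (some (7, 0))),
    (.edge 0 456 1 8 1 384, .walk ⟨8, 1, 0⟩ [.ext 0 13 [0, 7, 3, 6, 7] [], .ext 0 5 [6] []] [] (some (0, 0))),
    (.edge 2 8 1 456 1 448, .walk ⟨456, 1, 0⟩ [.ext 0 15 [] []] [] (some (7, 0))),
    (.edge 0 16258 1 1536 1 8192, .walk ⟨1536, 1, 0⟩ [.code 656, .ext 0 13 [0, 5, 7, 6, 7] [], .code 656, .ext 0 5 [6, 7, 7, 5, 2] [0, 0, 2, 0], .code 656] [] (some (2, 1))),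
    (.edge 2 1536 1 16258 1 8256, .walk ⟨16258, 1, 0⟩ [.ext 0 17 [] []] [] (some (7, 0))),
    (.edge 1 0 0 0 2 0, .def'),
    (.edge 3 0 2 0 0 0, .walk ⟨0, 0, 0⟩ [.ext 1 19 [] []] [] (some (8, 0))),
    (.pair 2 21434 256, .walk ⟨256, 0, 0⟩ [.ext 1 19 [] [1]] [.ext 1 19 [5] []] none),
    (.pair 2 8 64, .walk ⟨64, 0, 0⟩ [.ext 1 19 [] [2, 2]] [.ext 1 19 [0, 3, 0, 3] []] none),
    (.pair 2 14922 13056, .walk ⟨13056, 0, 0⟩ [.ext 1 19 [] [0, 0, 0, 2, 0, 2]] [.ext 1 19 [7, 0, 6] []] none),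
    (.pair 2 1157 449, .walk ⟨449, 0, 0⟩ [.ext 1 19 [] [2, 3]] [.ext 1 19 [0, 3, 0, 3, 6] []] none),
    (.pair 2 72 8, .walk ⟨8, 0, 0⟩ [.ext 1 19 [] [4]] [.ext 1 19 [2] []] none),
    (.pair 2 32 48, .walk ⟨48, 0, 0⟩ [.ext 1 19 [] [0, 0, 0, 0, 0, 0, 4, 0]] [.ext 1 19 [3, 4] []] none),
    (.edge 1 392 2 0 0 448, .walk ⟨0, 0, 0⟩ [.code 456, .ext 1 19 [0, 2, 3, 0, 3] [2], .code 456] [] (some (5, 1))),
    (.edge 3 0 0 392 2 384, .walk ⟨392, 2, 0⟩ [.ext 1 27 [] []] [] (some (8, 0))),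
    (.edge 1 1419 2 1 2 384, .walk ⟨1, 2, 0⟩ [.ext 1 27 [0, 2, 3, 0, 3, 6] [], .ext 1 19 [0, 2, 6, 7, 5, 7] []] [] (some (1, 0))),
    (.edge 3 1 2 1419 2 448, .walk ⟨1419, 2, 0⟩ [.ext 1 29 [] []] [] (some (8, 0))),
    (.edge 1 3057 2 3844 2 512, .walk ⟨3844, 2, 0⟩ [.code 139, .ext 1 27 [7, 0, 6] [], .code 139, .ext 1 19 [5, 1, 7, 4, 5] [0, 0, 0, 0, 0, 2], .code 139] [] (some (4, 1))),
    (.edge 3 3844 2 3057 2 7424, .walk ⟨3057, 2, 0⟩ [.ext 1 31 [] []] [] (some (8, 0))),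
    (.edge 1 0 1 0 3 0, .def'),
    (.edge 3 0 3 0 1 0, .walk ⟨0, 1, 0⟩ [.ext 1 33 [] []] [] (some (8, 0))),
    (.pair 3 21434 256, .walk ⟨256, 1, 0⟩ [.ext 1 33 [] [7]] [.ext 1 33 [5] []] none),
    (.pair 3 8 65, .walk ⟨64, 1, 0⟩ [.ext 1 33 [] [8, 10]] [.ext 1 33 [0, 3, 0, 3] []] none),
    (.pair 3 21046 69, .walk ⟨68, 1, 0⟩ [.ext 1 33 [] [8, 11]] [.ext 1 33 [4, 1, 4] []] none),
    (.pair 3 1221 456, .walk ⟨457, 1, 0⟩ [.ext 1 33 [] [12]] [.ext 1 33 [2, 6] []] none),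
    (.pair 3 19197 9248, .walk ⟨1211, 1, 0⟩ [.ext 1 33 [] [8, 9, 7, 12, 9]] [.ext 1 33 [1, 5, 4, 1, 6] []] none),
    (.edge 1 1099 3 0 1 64, .walk ⟨0, 1, 0⟩ [.code 456, .ext 1 33 [2, 6] [8], .code 456] [] (some (5, 1))),
    (.edge 3 0 1 1099 3 64, .walk ⟨1099, 3, 0⟩ [.ext 1 40 [] []] [] (some (8, 0))),
    (.edge 1 324 3 1 3 64, .walk ⟨1, 3, 0⟩ [.ext 1 40 [1, 2, 5] [], .ext 1 33 [2, 4, 1, 4, 5] []] [] (some (1, 0))),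
    (.edge 3 1 3 324 3 64, .walk ⟨324, 3, 0⟩ [.ext 1 42 [] []] [] (some (8, 0))),
    (.edge 0 1584 3 1536 3 7360, .walk ⟨1536, 3, 0⟩ [.code 2051, .code 21044, .ext 1 40 [1, 6, 3, 7] [], .code 1536, .ext 0 17 [4, 5, 5, 7, 1] [7, 7], .code 2051, .ext 1 33 [0, 3, 0, 4] [9], .code 1536] [] (some (6, 1))),
    (.edge 2 1536 3 1584 3 4928, .walk ⟨1584, 3, 0⟩ [.ext 0 44 [] []] [] (some (7, 0))),
    (.pair 3 18858 0, .walk ⟨1537, 3, 0⟩ [.code 8, .ext 0 44 [0, 2, 4, 6, 7, 5] [35, 39], .code 8, .ext 0 44 [3, 5, 7, 7, 1, 5] [35, 39]] [] (some (3, 1))),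
    (.pair 3 18924 0, .walk ⟨1538, 3, 0⟩ [.code 2051, .code 21044, .ext 1 42 [0, 7, 4, 5, 6] [], .code 1536, .ext 0 44 [5, 4, 2, 7] [35, 39], .code 2051, .ext 1 42 [0, 2, 7, 5, 5] [], .code 1536, .ext 0 44 [3, 7, 5, 5, 7, 2] [35, 39]] [] (some (6, 1)))]
  live := []
  reps := []
  close := []
  n := 0

end CfsgLib.HeType.Tri.Linear
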