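import Cfsg.Agent.Lib.HeType.Tri.Kill
import Cfsg.Agent.Lib.HeType.Tri.Linear.Data

/-!
Generated data: choices of the values of the relations that no group satisfies.
-/

set_option autoImplicit false
set_option maxRecDepth 100000

namespace CfsgLib.HeType.Tri.Linear

/-- Certificate for one impossible choice. -/
def badsq80 : Data where
  K := 1
  dgens := [dgens.getD 1 []]
  rels := [
    [.s 0, .s 0, .s 0], [.c 456, .s 0, .c 456, .s 0, .c 80], [.s 1, .s 0], [.s 0, .s 1]]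
  defs := [(0,0,0)]
  facts := [
    (.pair 0 128 128, .def'),
    (.pair 0 256 256, .def'),
    (.pair 0 384 384, .def'),
    (.pair 0 1 1, .def'),
    (.pair 0 8 8, .def'),
    (.edge 0 0 0 0 1 0, .def'),
    (.edge 1 0 1 0 0 0, .walk ⟨0, 0, 0⟩ [.ext 0 5 [] []] [] (some (2, 0))),
    (.pair 1 21434 256, .walk ⟨256, 0, 0⟩ [.ext 0 5 [] [1]] [.ext 0 5 [5] []] none),
    (.pair 1 8 64, .walk ⟨64, 0, 0⟩ [.ext 0 5 [] [2, 2]] [.ext 0 5 [0, 3, 0, 3] []] none),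
    (.pair 1 14922 13056, .walk ⟨13056, 0, 0⟩ [.ext 0 5 [] [0, 0, 0, 2, 0, 2]] [.ext 0 5 [7, 0, 6] []] none),
    (.pair 1 1157 449, .walk ⟨449, 0, 0⟩ [.ext 0 5 [] [2, 3]] [.ext 0 5 [0, 3, 0, 3, 6] []] none),
    (.pair 1 72 8, .walk ⟨8, 0, 0⟩ [.ext 0 5 [] [4]] [.ext 0 5 [2] []] none),
    (.pair 1 32 48, .walk ⟨48, 0, 0⟩ [.ext 0 5 [] [0, 0, 0, 0, 0, 0, 4, 0]] [.ext 0 5 [3, 4] []] none),
    (.edge 0 472 1 0 0 448, .walk ⟨0, 0, 0⟩ [.code 456, .code 80, .ext 0 5 [2, 3] [2], .code 456] [] (some (1, 1))),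
    (.edge 1 0 0 472 1 384, .walk ⟨472, 1, 0⟩ [.ext 0 13 [] []] [] (some (2, 0))),
    (.edge 0 1491 1 1 1 384, .walk ⟨1, 1, 0⟩ [.ext 0 13 [2, 6, 3] [], .ext 0 5 [2, 4, 1, 5, 6] []] [] (some (0, 0))),
    (.edge 1 1 1 1491 1 448, .walk ⟨1491, 1, 0⟩ [.ext 0 15 [] []] [] (some (2, 0))),
    (.pair 1 32 64, .walk ⟨1, 1, 0⟩ [.code 456, .code 80, .ext 0 15 [1, 5, 4] [], .code 456, .ext 0 15 [0, 2, 3, 0, 4] []] [] (some (1, 1)))]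
  live := []
  reps := []
  close := []
  n := 0

/-- Certificate for one impossible choice. -/
def badsq88 : Data where
  K := 1
  dgens := [dgens.getD 1 []]
  rels := [
    [.s 0, .s 0, .s 0], [.c 456, .s 0, .c 456, .s 0, .c 88], [.s 1, .s 0], [.s 0, .s 1]]
  defs := [(0,0,0)]
  facts := [
    (.pair 0 128 128, .def'),
    (.pair 0 256 256, .def'),
    (.pair 0 384 384, .def'),
    (.pair 0 1 1, .def'),
    (.pair 0 8 8, .def'),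
    (.edge 0 0 0 0 1 0, .def'),
    (.edge 1 0 1 0 0 0, .walk ⟨0, 0, 0⟩ [.ext 0 5 [] []] [] (some (2, 0))),
    (.pair 1 21434 256, .walk ⟨256, 0, 0⟩ [.ext 0 5 [] [1]] [.ext 0 5 [5] []] none),
    (.pair 1 8 64, .walk ⟨64, 0, 0⟩ [.ext 0 5 [] [2, 2]] [.ext 0 5 [0, 3, 0, 3] []] none),
    (.pair 1 14922 13056, .walk ⟨13056, 0, 0⟩ [.ext 0 5 [] [0, 0, 0, 2, 0, 2]] [.ext 0 5 [7, 0, 6] []] none),
    (.pair 1 1157 449, .walk ⟨449, 0, 0⟩ [.ext 0 5 [] [2, 3]] [.ext 0 5 [0, 3, 0, 3, 6] []] none),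
    (.pair 1 72 8, .walk ⟨8, 0, 0⟩ [.ext 0 5 [] [4]] [.ext 0 5 [2] []] none),
    (.pair 1 32 48, .walk ⟨48, 0, 0⟩ [.ext 0 5 [] [0, 0, 0, 0, 0, 0, 4, 0]] [.ext 0 5 [3, 4] []] none),
    (.edge 0 464 1 0 0 448, .walk ⟨0, 0, 0⟩ [.code 456, .code 88, .ext 0 5 [3] [2], .code 456] [] (some (1, 1))),
    (.edge 1 0 0 464 1 384, .walk ⟨464, 1, 0⟩ [.ext 0 13 [] []] [] (some (2, 0))),
    (.edge 0 1427 1 1 1 384, .walk ⟨1, 1, 0⟩ [.ext 0 13 [6, 3] [], .ext 0 5 [1, 4, 5, 6] []] [] (some (0, 0))),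
    (.edge 1 1 1 1427 1 448, .walk ⟨1427, 1, 0⟩ [.ext 0 15 [] []] [] (some (2, 0))),
    (.pair 1 32 64, .walk ⟨1, 1, 0⟩ [.code 456, .code 88, .ext 0 15 [2, 5, 4, 0] [], .code 456, .ext 0 15 [0, 2, 3, 0, 4] []] [] (some (1, 1)))]
  live := []
  reps := []
  close := []
  n := 0

/-- Certificate for one impossible choice. -/
def bad0_8 : Data where
  K := 1
  dgens := [dgens.getD 1 []]
  rels := [
    [.s 0, .s 0, .s 0], [.c 139, .s 0, .c 139, .s 0, .c 139, .s 0, .c 0], [.c 456, .s 0, .c 456, .s 0, .c 8],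
    [.s 1, .s 0], [.s 0, .s 1]]
  defs := [(0,0,0)]
  facts := [
    (.pair 0 128 128, .def'),
    (.pair 0 256 256, .def'),
    (.pair 0 384 384, .def'),
    (.pair 0 1 1, .def'),
    (.pair 0 8 8, .def'),
    (.edge 0 0 0 0 1 0, .def'),
    (.edge 1 0 1 0 0 0, .walk ⟨0, 0, 0⟩ [.ext 0 5 [] []] [] (some (3, 0))),
    (.pair 1 21434 256, .walk ⟨256, 0, 0⟩ [.ext 0 5 [] [1]] [.ext 0 5 [5] []] none),
    (.pair 1 8 64, .walk ⟨64, 0, 0⟩ [.ext 0 5 [] [2, 2]] [.ext 0 5 [0, 3, 0, 3] []] none),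
    (.pair 1 14922 13056, .walk ⟨13056, 0, 0⟩ [.ext 0 5 [] [0, 0, 0, 2, 0, 2]] [.ext 0 5 [7, 0, 6] []] none),
    (.pair 1 1157 449, .walk ⟨449, 0, 0⟩ [.ext 0 5 [] [2, 3]] [.ext 0 5 [0, 3, 0, 3, 6] []] none),
    (.pair 1 72 8, .walk ⟨8, 0, 0⟩ [.ext 0 5 [] [4]] [.ext 0 5 [2] []] none),
    (.pair 1 32 48, .walk ⟨48, 0, 0⟩ [.ext 0 5 [] [0, 0, 0, 0, 0, 0, 4, 0]] [.ext 0 5 [3, 4] []] none),
    (.edge 0 384 1 0 0 448, .walk ⟨0, 0, 0⟩ [.code 456, .code 8, .ext 0 5 [0, 3, 0, 3] [2], .code 456] [] (some (2, 1))),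
    (.edge 1 0 0 384 1 384, .walk ⟨384, 1, 0⟩ [.ext 0 13 [] []] [] (some (3, 0))),
    (.edge 0 1483 1 1 1 384, .walk ⟨1, 1, 0⟩ [.ext 0 13 [0, 3, 0, 3, 6] [], .ext 0 5 [1, 5, 6] []] [] (some (0, 0))),
    (.edge 1 1 1 1483 1 448, .walk ⟨1483, 1, 0⟩ [.ext 0 15 [] []] [] (some (3, 0))),
    (.edge 0 2985 1 3844 1 512, .walk ⟨3844, 1, 0⟩ [.code 139, .code 0, .ext 0 13 [2, 7, 0, 6] [], .code 139, .ext 0 5 [2, 5, 1, 7, 5] [0, 0, 0, 0, 0, 2], .code 139] [] (some (1, 1))),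
    (.edge 1 3844 1 2985 1 7424, .walk ⟨2985, 1, 0⟩ [.ext 0 17 [] []] [] (some (3, 0))),
    (.pair 1 21474 320, .walk ⟨1, 1, 0⟩ [.code 139, .code 0, .ext 0 17 [2, 7, 7, 0] [7, 9, 7], .code 139, .ext 0 17 [3, 7, 3] [7, 9], .code 139, .ext 0 15 [4, 5, 1, 7, 6] []] [] (some (1, 1)))]
  live := []
  reps := []
  close := []
  n := 0

/-- Certificate for one impossible choice. -/
def bad24_0 : Data where
  K := 1
  dgens := [dgens.getD 1 []]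
  rels := [
    [.s 0, .s 0, .s 0], [.c 139, .s 0, .c 139, .s 0, .c 139, .s 0, .c 24], [.c 456, .s 0, .c 456, .s 0, .c 0],
    [.s 1, .s 0], [.s 0, .s 1]]
  defs := [(0,0,0)]
  facts := [
    (.pair 0 128 128, .def'),
    (.pair 0 256 256, .def'),
    (.pair 0 384 384, .def'),
    (.pair 0 1 1, .def'),
    (.pair 0 8 8, .def'),
    (.edge 0 0 0 0 1 0, .def'),
    (.edge 1 0 1 0 0 0, .walk ⟨0, 0, 0⟩ [.ext 0 5 [] []] [] (some (3, 0))),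
    (.pair 1 21434 256, .walk ⟨256, 0, 0⟩ [.ext 0 5 [] [1]] [.ext 0 5 [5] []] none),
    (.pair 1 8 64, .walk ⟨64, 0, 0⟩ [.ext 0 5 [] [2, 2]] [.ext 0 5 [0, 3, 0, 3] []] none),
    (.pair 1 14922 13056, .walk ⟨13056, 0, 0⟩ [.ext 0 5 [] [0, 0, 0, 2, 0, 2]] [.ext 0 5 [7, 0, 6] []] none),
    (.pair 1 1157 449, .walk ⟨449, 0, 0⟩ [.ext 0 5 [] [2, 3]] [.ext 0 5 [0, 3, 0, 3, 6] []] none),
    (.pair 1 72 8, .walk ⟨8, 0, 0⟩ [.ext 0 5 [] [4]] [.ext 0 5 [2] []] none),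
    (.pair 1 32 48, .walk ⟨48, 0, 0⟩ [.ext 0 5 [] [0, 0, 0, 0, 0, 0, 4, 0]] [.ext 0 5 [3, 4] []] none),
    (.edge 0 392 1 0 0 448, .walk ⟨0, 0, 0⟩ [.code 456, .code 0, .ext 0 5 [0, 2, 3, 0, 3] [2], .code 456] [] (some (2, 1))),
    (.edge 1 0 0 392 1 384, .walk ⟨392, 1, 0⟩ [.ext 0 13 [] []] [] (some (3, 0))),
    (.edge 0 1419 1 1 1 384, .walk ⟨1, 1, 0⟩ [.ext 0 13 [0, 2, 3, 0, 3, 6] [], .ext 0 5 [0, 2, 6, 7, 5, 7] []] [] (some (0, 0))),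
    (.edge 1 1 1 1419 1 448, .walk ⟨1419, 1, 0⟩ [.ext 0 15 [] []] [] (some (3, 0))),
    (.edge 0 3049 1 3844 1 512, .walk ⟨3844, 1, 0⟩ [.code 139, .code 24, .ext 0 13 [7, 0, 3, 6] [], .code 139, .ext 0 5 [1, 7, 7, 7] [0, 0, 0, 0, 0, 2], .code 139] [] (some (1, 1))),
    (.edge 1 3844 1 3049 1 7424, .walk ⟨3049, 1, 0⟩ [.ext 0 17 [] []] [] (some (3, 0))),
    (.pair 1 21474 320, .walk ⟨1, 1, 0⟩ [.code 139, .code 24, .ext 0 17 [3, 0, 7, 7] [7, 9, 7], .code 139, .ext 0 17 [7] [7, 9], .code 139, .ext 0 15 [4, 5, 1, 7, 6] []] [] (some (1, 1)))]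
  live := []
  reps := []
  close := []
  n := 0

/-- Certificate for one impossible choice. -/
def bad32_0 : Data where
  K := 1
  dgens := [dgens.getD 1 []]
  rels := [
    [.s 0, .s 0, .s 0], [.c 139, .s 0, .c 139, .s 0, .c 139, .s 0, .c 32], [.c 456, .s 0, .c 456, .s 0, .c 0],
    [.s 1, .s 0], [.s 0, .s 1]]
  defs := [(0,0,0)]
  facts := [
    (.pair 0 128 128, .def'),
    (.pair 0 256 256, .def'),
    (.pair 0 384 384, .def'),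
    (.pair 0 1 1, .def'),
    (.pair 0 8 8, .def'),
    (.edge 0 0 0 0 1 0, .def'),
    (.edge 1 0 1 0 0 0, .walk ⟨0, 0, 0⟩ [.ext 0 5 [] []] [] (some (3, 0))),
    (.pair 1 21434 256, .walk ⟨256, 0, 0⟩ [.ext 0 5 [] [1]] [.ext 0 5 [5] []] none),
    (.pair 1 8 64, .walk ⟨64, 0, 0⟩ [.ext 0 5 [] [2, 2]] [.ext 0 5 [0, 3, 0, 3] []] none),
    (.pair 1 14922 13056, .walk ⟨13056, 0, 0⟩ [.ext 0 5 [] [0, 0, 0, 2, 0, 2]] [.ext 0 5 [7, 0, 6] []] none),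
    (.pair 1 1157 449, .walk ⟨449, 0, 0⟩ [.ext 0 5 [] [2, 3]] [.ext 0 5 [0, 3, 0, 3, 6] []] none),
    (.pair 1 72 8, .walk ⟨8, 0, 0⟩ [.ext 0 5 [] [4]] [.ext 0 5 [2] []] none),
    (.pair 1 32 48, .walk ⟨48, 0, 0⟩ [.ext 0 5 [] [0, 0, 0, 0, 0, 0, 4, 0]] [.ext 0 5 [3, 4] []] none),
    (.edge 0 392 1 0 0 448, .walk ⟨0, 0, 0⟩ [.code 456, .code 0, .ext 0 5 [0, 2, 3, 0, 3] [2], .code 456] [] (some (2, 1))),
    (.edge 1 0 0 392 1 384, .walk ⟨392, 1, 0⟩ [.ext 0 13 [] []] [] (some (3, 0))),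
    (.edge 0 1419 1 1 1 384, .walk ⟨1, 1, 0⟩ [.ext 0 13 [0, 2, 3, 0, 3, 6] [], .ext 0 5 [0, 2, 6, 7, 5, 7] []] [] (some (0, 0))),
    (.edge 1 1 1 1419 1 448, .walk ⟨1419, 1, 0⟩ [.ext 0 15 [] []] [] (some (3, 0))),
    (.edge 0 2961 1 3844 1 512, .walk ⟨3844, 1, 0⟩ [.code 139, .code 32, .ext 0 13 [4, 7, 0, 6] [], .code 139, .ext 0 5 [1, 7, 7, 7, 4] [0, 0, 0, 0, 0, 2], .code 139] [] (some (1, 1))),
    (.edge 1 3844 1 2961 1 7424, .walk ⟨2961, 1, 0⟩ [.ext 0 17 [] []] [] (some (3, 0))),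
    (.pair 1 0 64, .walk ⟨3844, 1, 0⟩ [.code 456, .code 0, .ext 0 17 [2, 6, 7, 3, 5] [9, 7], .code 456, .ext 0 17 [] [9, 7]] [] (some (2, 1)))]
  live := []
  reps := []
  close := []
  n := 0

/-- Certificate for one impossible choice. -/
def bad32_8 : Data where
  K := 1
  dgens := [dgens.getD 1 []]
  rels := [
    [.s 0, .s 0, .s 0], [.c 139, .s 0, .c 139, .s 0, .c 139, .s 0, .c 32], [.c 456, .s 0, .c 456, .s 0, .c 8],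
    [.s 1, .s 0], [.s 0, .s 1]]
  defs := [(0,0,0)]
  facts := [
    (.pair 0 128 128, .def'),
    (.pair 0 256 256, .def'),
    (.pair 0 384 384, .def'),
    (.pair 0 1 1, .def'),
    (.pair 0 8 8, .def'),
    (.edge 0 0 0 0 1 0, .def'),
    (.edge 1 0 1 0 0 0, .walk ⟨0, 0, 0⟩ [.ext 0 5 [] []] [] (some (3, 0))),
    (.pair 1 21434 256, .walk ⟨256, 0, 0⟩ [.ext 0 5 [] [1]] [.ext 0 5 [5] []] none),
    (.pair 1 8 64, .walk ⟨64, 0, 0⟩ [.ext 0 5 [] [2, 2]] [.ext 0 5 [0, 3, 0, 3] []] none),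
    (.pair 1 14922 13056, .walk ⟨13056, 0, 0⟩ [.ext 0 5 [] [0, 0, 0, 2, 0, 2]] [.ext 0 5 [7, 0, 6] []] none),
    (.pair 1 1157 449, .walk ⟨449, 0, 0⟩ [.ext 0 5 [] [2, 3]] [.ext 0 5 [0, 3, 0, 3, 6] []] none),
    (.pair 1 72 8, .walk ⟨8, 0, 0⟩ [.ext 0 5 [] [4]] [.ext 0 5 [2] []] none),
    (.pair 1 32 48, .walk ⟨48, 0, 0⟩ [.ext 0 5 [] [0, 0, 0, 0, 0, 0, 4, 0]] [.ext 0 5 [3, 4] []] none),
    (.edge 0 384 1 0 0 448, .walk ⟨0, 0, 0⟩ [.code 456, .code 8, .ext 0 5 [0, 3, 0, 3] [2], .code 456] [] (some (2, 1))),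
    (.edge 1 0 0 384 1 384, .walk ⟨384, 1, 0⟩ [.ext 0 13 [] []] [] (some (3, 0))),
    (.edge 0 1483 1 1 1 384, .walk ⟨1, 1, 0⟩ [.ext 0 13 [0, 3, 0, 3, 6] [], .ext 0 5 [1, 5, 6] []] [] (some (0, 0))),
    (.edge 1 1 1 1483 1 448, .walk ⟨1483, 1, 0⟩ [.ext 0 15 [] []] [] (some (3, 0))),
    (.edge 0 3017 1 3844 1 512, .walk ⟨3844, 1, 0⟩ [.code 139, .code 32, .ext 0 13 [0, 5, 7, 3, 7] [], .code 139, .ext 0 5 [5, 7, 1, 3, 5] [0, 0, 0, 0, 0, 2], .code 139] [] (some (1, 1))),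
    (.edge 1 3844 1 3017 1 7424, .walk ⟨3017, 1, 0⟩ [.ext 0 17 [] []] [] (some (3, 0))),
    (.pair 1 0 64, .walk ⟨3844, 1, 0⟩ [.code 456, .code 8, .ext 0 17 [4, 6, 7, 5] [9, 7], .code 456, .ext 0 17 [] [9, 7]] [] (some (2, 1)))]
  live := []
  reps := []
  close := []
  n := 0

/-- Certificate for one impossible choice. -/
def bad56_0 : Data where
  K := 1
  dgens := [dgens.getD 1 []]
  rels := [
    [.s 0, .s 0, .s 0], [.c 139, .s 0, .c 139, .s 0, .c 139, .s 0, .c 56], [.c 456, .s 0, .c 456, .s 0, .c 0],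
    [.s 1, .s 0], [.s 0, .s 1]]
  defs := [(0,0,0)]
  facts := [
    (.pair 0 128 128, .def'),
    (.pair 0 256 256, .def'),
    (.pair 0 384 384, .def'),
    (.pair 0 1 1, .def'),
    (.pair 0 8 8, .def'),
    (.edge 0 0 0 0 1 0, .def'),
    (.edge 1 0 1 0 0 0, .walk ⟨0, 0, 0⟩ [.ext 0 5 [] []] [] (some (3, 0))),
    (.pair 1 21434 256, .walk ⟨256, 0, 0⟩ [.ext 0 5 [] [1]] [.ext 0 5 [5] []] none),
    (.pair 1 8 64, .walk ⟨64, 0, 0⟩ [.ext 0 5 [] [2, 2]] [.ext 0 5 [0, 3, 0, 3] []] none),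
    (.pair 1 14922 13056, .walk ⟨13056, 0, 0⟩ [.ext 0 5 [] [0, 0, 0, 2, 0, 2]] [.ext 0 5 [7, 0, 6] []] none),
    (.pair 1 1157 449, .walk ⟨449, 0, 0⟩ [.ext 0 5 [] [2, 3]] [.ext 0 5 [0, 3, 0, 3, 6] []] none),
    (.pair 1 72 8, .walk ⟨8, 0, 0⟩ [.ext 0 5 [] [4]] [.ext 0 5 [2] []] none),
    (.pair 1 32 48, .walk ⟨48, 0, 0⟩ [.ext 0 5 [] [0, 0, 0, 0, 0, 0, 4, 0]] [.ext 0 5 [3, 4] []] none),
    (.edge 0 392 1 0 0 448, .walk ⟨0, 0, 0⟩ [.code 456, .code 0, .ext 0 5 [0, 2, 3, 0, 3] [2], .code 456] [] (some (2, 1))),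
    (.edge 1 0 0 392 1 384, .walk ⟨392, 1, 0⟩ [.ext 0 13 [] []] [] (some (3, 0))),
    (.edge 0 1419 1 1 1 384, .walk ⟨1, 1, 0⟩ [.ext 0 13 [0, 2, 3, 0, 3, 6] [], .ext 0 5 [0, 2, 6, 7, 5, 7] []] [] (some (0, 0))),
    (.edge 1 1 1 1419 1 448, .walk ⟨1419, 1, 0⟩ [.ext 0 15 [] []] [] (some (3, 0))),
    (.edge 0 2953 1 3844 1 512, .walk ⟨3844, 1, 0⟩ [.code 139, .code 56, .ext 0 13 [0, 5, 4, 7, 7] [], .code 139, .ext 0 5 [4, 1, 7, 7, 7] [0, 0, 0, 0, 0, 2], .code 139] [] (some (1, 1))),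
    (.edge 1 3844 1 2953 1 7424, .walk ⟨2953, 1, 0⟩ [.ext 0 17 [] []] [] (some (3, 0))),
    (.pair 1 0 64, .walk ⟨3844, 1, 0⟩ [.code 456, .code 0, .ext 0 17 [2, 6, 7, 5, 4] [9, 7], .code 456, .ext 0 17 [] [9, 7]] [] (some (2, 1)))]
  live := []
  reps := []
  close := []
  n := 0

/-- Certificate for one impossible choice. -/
def bad56_8 : Data where
  K := 1
  dgens := [dgens.getD 1 []]
  rels := [
    [.s 0, .s 0, .s 0], [.c 139, .s 0, .c 139, .s 0, .c 139, .s 0, .c 56], [.c 456, .s 0, .c 456, .s 0, .c 8],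
    [.s 1, .s 0], [.s 0, .s 1]]
  defs := [(0,0,0)]
  facts := [
    (.pair 0 128 128, .def'),
    (.pair 0 256 256, .def'),
    (.pair 0 384 384, .def'),
    (.pair 0 1 1, .def'),
    (.pair 0 8 8, .def'),
    (.edge 0 0 0 0 1 0, .def'),
    (.edge 1 0 1 0 0 0, .walk ⟨0, 0, 0⟩ [.ext 0 5 [] []] [] (some (3, 0))),
    (.pair 1 21434 256, .walk ⟨256, 0, 0⟩ [.ext 0 5 [] [1]] [.ext 0 5 [5] []] none),
    (.pair 1 8 64, .walk ⟨64, 0, 0⟩ [.ext 0 5 [] [2, 2]] [.ext 0 5 [0, 3, 0, 3] []] none),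
    (.pair 1 14922 13056, .walk ⟨13056, 0, 0⟩ [.ext 0 5 [] [0, 0, 0, 2, 0, 2]] [.ext 0 5 [7, 0, 6] []] none),
    (.pair 1 1157 449, .walk ⟨449, 0, 0⟩ [.ext 0 5 [] [2, 3]] [.ext 0 5 [0, 3, 0, 3, 6] []] none),
    (.pair 1 72 8, .walk ⟨8, 0, 0⟩ [.ext 0 5 [] [4]] [.ext 0 5 [2] []] none),
    (.pair 1 32 48, .walk ⟨48, 0, 0⟩ [.ext 0 5 [] [0, 0, 0, 0, 0, 0, 4, 0]] [.ext 0 5 [3, 4] []] none),
    (.edge 0 384 1 0 0 448, .walk ⟨0, 0, 0⟩ [.code 456, .code 8, .ext 0 5 [0, 3, 0, 3] [2], .code 456] [] (some (2, 1))),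
    (.edge 1 0 0 384 1 384, .walk ⟨384, 1, 0⟩ [.ext 0 13 [] []] [] (some (3, 0))),
    (.edge 0 1483 1 1 1 384, .walk ⟨1, 1, 0⟩ [.ext 0 13 [0, 3, 0, 3, 6] [], .ext 0 5 [1, 5, 6] []] [] (some (0, 0))),
    (.edge 1 1 1 1483 1 448, .walk ⟨1483, 1, 0⟩ [.ext 0 15 [] []] [] (some (3, 0))),
    (.edge 0 3025 1 3844 1 512, .walk ⟨3844, 1, 0⟩ [.code 139, .code 56, .ext 0 13 [7, 4, 0, 6] [], .code 139, .ext 0 5 [1, 7, 4, 7, 7] [0, 0, 0, 0, 0, 2], .code 139] [] (some (1, 1))),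
    (.edge 1 3844 1 3025 1 7424, .walk ⟨3025, 1, 0⟩ [.ext 0 17 [] []] [] (some (3, 0))),
    (.pair 1 0 64, .walk ⟨3844, 1, 0⟩ [.code 456, .code 8, .ext 0 17 [2, 6, 3, 7, 5] [9, 7], .code 456, .ext 0 17 [] [9, 7]] [] (some (2, 1)))]
  live := []
  reps := []
  close := []
  n := 0

end CfsgLib.HeType.Tri.Linear
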